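import Groth.Agent.EtpbcB.MateCalc

/-!
# Transfer of base change maps along functors compatible with the adjunctions

`isIso_map_bc_iff`: in a situation `(Rf, Lg ⊣ Rg, ...)` mapping by functors `U` to a situation `(Rf₀, Lg₀ ⊣ Rg₀, ...)`
compatibly with units, `U` of a base change map is an isomorphism iff the corresponding base change map is.
-/

set_option autoImplicit false

namespace Groth.Agent.EtSix.H3.BCTransfer

open CategoryTheory Groth.Agent.EtpbcB.MateCalc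

universe v₁ v₂ v₃ v₄ v₅ v₆ v₇ v₈ u₁ u₂ u₃ u₄ u₅ u₆ u₇ u₈

variable {A : Type u₁} [Category.{v₁} A] {B : Type u₂} [Category.{v₂} B]
  {A' : Type u₃} [Category.{v₃} A'] {B' : Type u₄} [Category.{v₄} B']
  {Rf : A ⥤ B} {Rf' : A' ⥤ B'} {Lg : B ⥤ B'} {Rg : B' ⥤ B} {Lg' : A ⥤ A'} {Rg' : A' ⥤ A}
  (adj : Lg ⊣ Rg) (adj' : Lg' ⊣ Rg') (α : Rg' ⋙ Rf ⟶ Rf' ⋙ Rg)
  {A₀ : Type u₅} [Category.{v₅} A₀] {B₀ : Type u₆} [Category.{v₆} B₀]
  {A₀' : Type u₇} [Category.{v₇} A₀'] {B₀' : Type u₈} [Category.{v₈} B₀']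
  {Sf : A₀ ⥤ B₀} {Sf' : A₀' ⥤ B₀'} {Mg : B₀ ⥤ B₀'} {Sg : B₀' ⥤ B₀} {Mg' : A₀ ⥤ A₀'} {Sg' : A₀' ⥤ A₀}
  (adj₀ : Mg ⊣ Sg) (adj₀' : Mg' ⊣ Sg') (α₀ : Sg' ⋙ Sf ⟶ Sf' ⋙ Sg)
  {UA : A ⥤ A₀} {UB : B ⥤ B₀} {UA' : A' ⥤ A₀'} {UB' : B' ⥤ B₀'}
  (κf : Rf ⋙ UB ≅ UA ⋙ Sf) (κf' : Rf' ⋙ UB' ≅ UA' ⋙ Sf')
  (κg : Rg ⋙ UB ≅ UB' ⋙ Sg) (κg' : Rg' ⋙ UA ≅ UA' ⋙ Sg')
  (πg : Lg ⋙ UB' ≅ UB ⋙ Mg) (πg' : Lg' ⋙ UA' ≅ UA ⋙ Mg')

include κf κf' κg κg' in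
/-- The transferred base change map. -/
theorem bc_eq
    (hg : ∀ F : B, adj₀.unit.app (UB.obj F) = UB.map (adj.unit.app F) ≫ κg.hom.app (Lg.obj F) ≫
      Sg.map (πg.hom.app F))
    (hg' : ∀ F : A, adj₀'.unit.app (UA.obj F) = UA.map (adj'.unit.app F) ≫ κg'.hom.app (Lg'.obj F) ≫
      Sg'.map (πg'.hom.app F))
    (hα : ∀ M : A', UB.map (α.app M) ≫ κg.hom.app (Rf'.obj M) ≫ Sg.map (κf'.hom.app M) =
      κf.hom.app (Rg'.obj M) ≫ Sf.map (κg'.hom.app M) ≫ α₀.app (UA'.obj M)) (F : A) :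
    Mg.map (κf.inv.app F) ≫ πg.inv.app (Rf.obj F) ≫ UB'.map (bc adj adj' α F) ≫
      κf'.hom.app (Lg'.obj F) ≫ Sf'.map (πg'.hom.app F) = bc adj₀ adj₀' α₀ (UA.obj F) := by
  refine bc_unique adj₀ adj₀' α₀ (F := UA.obj F) (Mg.map (κf.inv.app F) ≫ πg.inv.app (Rf.obj F) ≫
    UB'.map (bc adj adj' α F) ≫ κf'.hom.app (Lg'.obj F) ≫ Sf'.map (πg'.hom.app F)) ?_
  have e1 := adj₀.unit.naturality (κf.inv.app F)
  have e2 := hg (Rf.obj F)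
  have e3 := κg.hom.naturality (bc adj adj' α F)
  have e4 := unit_bc adj adj' α F
  have e5 := hα (Lg'.obj F)
  have e6 := hg' F
  have e7 := α₀.naturality (πg'.hom.app F)
  have e8 := κf.hom.naturality (adj'.unit.app F)
  simp only [Functor.comp_map, Functor.id_map, Functor.comp_obj, Functor.id_obj] at e1 e2 e3 e4 e5 e6 e7 e8
  have e9 : Sg.map (πg.hom.app (Rf.obj F)) ≫ Sg.map (πg.inv.app (Rf.obj F)) = 𝟙 _ := by
    rw [← Sg.map_comp, Iso.hom_inv_id_app, Sg.map_id]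
  have e10 : κf.inv.app F ≫ κf.hom.app F = 𝟙 _ := Iso.inv_hom_id_app κf F
  simp only [Functor.map_comp, Functor.comp_obj, Functor.id_obj]
  rw [← reassoc_of% e1, e2]
  simp only [Category.assoc]
  rw [reassoc_of% e9, ← reassoc_of% e3, ← UB.map_comp_assoc, e4]
  simp only [Functor.map_comp, Category.assoc]
  rw [reassoc_of% e5, ← e7]
  rw [reassoc_of% e8, reassoc_of% e10, ← Sf.map_comp_assoc, ← Sf.map_comp_assoc]
  rw [e6]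
  simp only [Category.assoc]

include adj₀ adj₀' κf κf' κg κg' πg πg' in
/-- `U` of a base change map is an isomorphism iff the corresponding base change map is. -/
theorem isIso_map_bc_iff
    (hg : ∀ F : B, adj₀.unit.app (UB.obj F) = UB.map (adj.unit.app F) ≫ κg.hom.app (Lg.obj F) ≫
      Sg.map (πg.hom.app F))
    (hg' : ∀ F : A, adj₀'.unit.app (UA.obj F) = UA.map (adj'.unit.app F) ≫ κg'.hom.app (Lg'.obj F) ≫
      Sg'.map (πg'.hom.app F))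
    (hα : ∀ M : A', UB.map (α.app M) ≫ κg.hom.app (Rf'.obj M) ≫ Sg.map (κf'.hom.app M) =
      κf.hom.app (Rg'.obj M) ≫ Sf.map (κg'.hom.app M) ≫ α₀.app (UA'.obj M)) (F : A) :
    IsIso (UB'.map (bc adj adj' α F)) ↔ IsIso (bc adj₀ adj₀' α₀ (UA.obj F)) := by
  rw [← bc_eq adj adj' α adj₀ adj₀' α₀ κf κf' κg κg' πg πg' hg hg' hα F]
  constructor
  · intro h
    infer_instance
  · intro h
    have h1 := IsIso.of_isIso_comp_left (Mg.map (κf.inv.app F)) (πg.inv.app (Rf.obj F) ≫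
      UB'.map (bc adj adj' α F) ≫ κf'.hom.app (Lg'.obj F) ≫ Sf'.map (πg'.hom.app F))
    have h2 := IsIso.of_isIso_comp_left (πg.inv.app (Rf.obj F))
      (UB'.map (bc adj adj' α F) ≫ κf'.hom.app (Lg'.obj F) ≫ Sf'.map (πg'.hom.app F))
    exact IsIso.of_isIso_comp_right (UB'.map (bc adj adj' α F))
      (κf'.hom.app (Lg'.obj F) ≫ Sf'.map (πg'.hom.app F))

end Groth.Agent.EtSix.H3.BCTransfer
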