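import Groth.Agent.Sga4h.LFinPull
import Mathlib.AlgebraicGeometry.AlgClosed.Basic

/-!
# Closed points are conservative

For `Y` locally of finite type over an algebraically closed field `k`, the inverse images along the sections
`Spec k ⟶ Y` are jointly conservative on sheaves of `Λ`-modules.
-/

set_option autoImplicit false
universe u

open CategoryTheory CategoryTheory.Limits AlgebraicGeometry Opposite

namespace Groth.Agent.EtSix.H3.ClosedPts

open Groth.Agent.Etcore.LVan Groth.Agent.Etcore.LPull Groth.Agent.Sga4h.LFinPull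
open Groth.Agent.EtpbcA.ConsPull (fstBc)

variable {k : Type u} [Field k] [IsAlgClosed k] {Λ : Type (u + 1)} [CommRing Λ] {Y : Scheme.{u}}
  (g : Y ⟶ Spec (CommRingCat.of k)) [LocallyOfFiniteType g]

/-- An open subset containing all closed points is everything. -/
lemma eq_univ_of_closedPoints {T : Type*} [TopologicalSpace T] [JacobsonSpace T] {U : Set T} (hU : IsOpen U)
    (h : ∀ x : T, IsClosed {x} → x ∈ U) : U = Set.univ := by
  by_contra hne
  have h1 : Uᶜ.Nonempty := by
    rw [Set.nonempty_compl]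
    exact hne
  have h2 := JacobsonSpace.closure_inter_closedPoints (X := T) (Z := Uᶜ) hU.isClosed_compl
  have h3 : (Uᶜ ∩ closedPoints T) = ∅ := by
    ext x
    simp only [Set.mem_inter_iff, Set.mem_compl_iff, Set.mem_empty_iff_false, iff_false, not_and]
    intro hx hx2
    exact hx (h x hx2)
  rw [h3, closure_empty] at h2
  rw [← h2] at h1
  exact Set.not_nonempty_empty h1

/-- A sheaf on `Y` with zero inverse images at all `k`-points is zero. -/
theorem isZero_of_points (F : EtModW.Mod Λ Y)
    (h : ∀ ξ : Spec (CommRingCat.of k) ⟶ Y, ξ ≫ g = 𝟙 _ → IsZero ((EtModW.pull Λ ξ).obj F)) : IsZero F := by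
  apply isZero_of_sect
  intro U s
  apply eq_zero_of_van
  have hJ : JacobsonSpace U.left := LocallyOfFiniteType.jacobsonSpace (U.hom ≫ g)
  have h0 : {x | Van F s x} = Set.univ := by
    refine eq_univ_of_closedPoints (isOpen_van s) ?_
    intro x hx
    let η : Spec (CommRingCat.of k) ⟶ U.left := pointOfClosedPoint (U.hom ≫ g) x hx
    have hη : η ≫ U.hom ≫ g = 𝟙 _ := pointOfClosedPoint_comp (U.hom ≫ g) x hx
    let ξ : Spec (CommRingCat.of k) ⟶ Y := η ≫ U.hom
    have hξ : ξ ≫ g = 𝟙 _ := (Category.assoc _ _ _).trans hη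
    have hx' : U.hom x = ξ default := by
      change U.hom x = U.hom (η default)
      rw [pointOfClosedPoint_apply]
    obtain ⟨w, hw, -⟩ := Scheme.Pullback.exists_preimage_pullback (f := U.hom) (g := ξ) x default hx'
    have h1 : eta ξ F U s = 0 := sect_eq_zero (h ξ hξ) _
    have h2 := (van_eta_iff ξ F s w).1 (van_zero_of_eq h1 w)
    have h3 : fstBc ξ U w = x := hw
    rwa [h3] at h2
  intro x
  have : x ∈ {x | Van F s x} := by
    rw [h0]
    trivial
  exact this

variable {F G : EtModW.Mod Λ Y} (α : F ⟶ G)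

theorem mono_of_points (h : ∀ ξ : Spec (CommRingCat.of k) ⟶ Y, ξ ≫ g = 𝟙 _ → Mono ((EtModW.pull Λ ξ).map α)) :
    Mono α := by
  apply Preadditive.mono_of_isZero_kernel
  apply isZero_of_points g
  intro ξ hξ
  have := h ξ hξ
  exact (isZero_kernel_of_mono ((EtModW.pull Λ ξ).map α)).of_iso
    (PreservesKernel.iso (EtModW.pull Λ ξ) α)

theorem epi_of_points (h : ∀ ξ : Spec (CommRingCat.of k) ⟶ Y, ξ ≫ g = 𝟙 _ → Epi ((EtModW.pull Λ ξ).map α)) :
    Epi α := by
  apply Preadditive.epi_of_isZero_cokernel
  apply isZero_of_points g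
  intro ξ hξ
  have := h ξ hξ
  exact (isZero_cokernel_of_epi ((EtModW.pull Λ ξ).map α)).of_iso
    (PreservesCokernel.iso (EtModW.pull Λ ξ) α)

/-- A morphism of sheaves on `Y` which is an isomorphism at all `k`-points is an isomorphism. -/
theorem isIso_of_points (h : ∀ ξ : Spec (CommRingCat.of k) ⟶ Y, ξ ≫ g = 𝟙 _ → IsIso ((EtModW.pull Λ ξ).map α)) :
    IsIso α := by
  have h1 := mono_of_points g α (fun ξ hξ => by have := h ξ hξ; infer_instance)
  have h2 := epi_of_points g α (fun ξ hξ => by have := h ξ hξ; infer_instance)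
  exact isIso_of_mono_of_epi α

end Groth.Agent.EtSix.H3.ClosedPts
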