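import Groth.Prelude.Def_SixF1
import Groth.Agent.EtpbcB.BCCalc

/-!
# The base change map `EtSix.baseChange0Mod` as an abstract base change map

* `sqM w : push g' ⋙ push f ≅ push f' ⋙ push g`, with a section formula;
* `baseChange0Mod_eq`, `unit_baseChange0Mod`, `baseChange0Mod_naturality`: the prelude's `EtSix.baseChange0Mod` is
  an abstract base change map (`EtpbcB.MateCalc.bc`).
-/

set_option autoImplicit false
universe u

open CategoryTheory CategoryTheory.Limits AlgebraicGeometry Opposite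

namespace Groth.Agent.EtSix.H3.SqM

open Groth.Agent.EtpbcB

variable {Λ : Type (u + 1)} [CommRing Λ] {X Y X' Y' : Scheme.{u}}
  {f : X ⟶ Y} {g : Y' ⟶ Y} {f' : X' ⟶ Y'} {g' : X' ⟶ X}

variable (Λ) in
/-- For a commutative square, `push g' ⋙ push f ≅ push f' ⋙ push g` (sheaves of modules). -/
noncomputable def sqM (w : g' ≫ f = f' ≫ g) :
    EtModW.push Λ g' ⋙ EtModW.push Λ f ≅ EtModW.push Λ f' ⋙ EtModW.push Λ g :=
  EtSix.pushModComp Λ f g' ≪≫ EtSix.pushModCongr Λ w ≪≫ (EtSix.pushModComp Λ g f').symm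

lemma sqM_hom_app_app (w : g' ≫ f = f' ≫ g) (F : EtModW.Mod Λ X') (U : Y.Etale) :
    ((sqM Λ w).hom.app F).hom.app (op U) = F.obj.map (BCCalc.theta w U).hom.op := by
  simp only [sqM, BCCalc.theta, Iso.trans_hom, Iso.symm_hom, op_comp, Functor.map_comp, NatTrans.comp_app]
  rfl

lemma baseChange0Mod_eq (w : g' ≫ f = f' ≫ g) (F : EtModW.Mod Λ X) :
    EtSix.baseChange0Mod Λ f g f' g' w F =
      MateCalc.bc (EtSix.pullPushModAdj Λ g) (EtSix.pullPushModAdj Λ g') (sqM Λ w).hom F := by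
  unfold EtSix.baseChange0Mod MateCalc.bc
  congr 1

lemma unit_baseChange0Mod (w : g' ≫ f = f' ≫ g) (F : EtModW.Mod Λ X) :
    (EtSix.pullPushModAdj Λ g).unit.app ((EtModW.push Λ f).obj F) ≫
        (EtModW.push Λ g).map (EtSix.baseChange0Mod Λ f g f' g' w F) =
      (EtModW.push Λ f).map ((EtSix.pullPushModAdj Λ g').unit.app F) ≫
        (sqM Λ w).hom.app ((EtModW.pull Λ g').obj F) := by
  rw [baseChange0Mod_eq]
  exact MateCalc.unit_bc (EtSix.pullPushModAdj Λ g) (EtSix.pullPushModAdj Λ g') (sqM Λ w).hom F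

lemma baseChange0Mod_naturality (w : g' ≫ f = f' ≫ g) {F G : EtModW.Mod Λ X} (φ : F ⟶ G) :
    (EtModW.pull Λ g).map ((EtModW.push Λ f).map φ) ≫ EtSix.baseChange0Mod Λ f g f' g' w G =
      EtSix.baseChange0Mod Λ f g f' g' w F ≫ (EtModW.push Λ f').map ((EtModW.pull Λ g').map φ) := by
  rw [baseChange0Mod_eq, baseChange0Mod_eq]
  exact MateCalc.bc_naturality (EtSix.pullPushModAdj Λ g) (EtSix.pullPushModAdj Λ g') (sqM Λ w).hom φ

variable (Λ) in
/-- The base change natural transformation. -/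
noncomputable def bcNatM (w : g' ≫ f = f' ≫ g) :
    EtModW.push Λ f ⋙ EtModW.pull Λ g ⟶ EtModW.pull Λ g' ⋙ EtModW.push Λ f' where
  app F := EtSix.baseChange0Mod Λ f g f' g' w F
  naturality _ _ φ := baseChange0Mod_naturality w φ

end Groth.Agent.EtSix.H3.SqM
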