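import Groth.Prelude.Def_SixF2
import Groth.Agent.EtSix.H3.SqM

/-!
# The maps `Λ_Y ⟶ f_* Λ_X`

`cmap Λ f : Λ_Y ⟶ f_* Λ_X` is the transpose of `pullConstΛ Λ f`; `cmap_sq` is its compatibility with commutative
squares and `cmap_pb`, `eq_of_cmap_comp` relate it to the pullback of sections.
-/

set_option autoImplicit false
universe u

open CategoryTheory CategoryTheory.Limits AlgebraicGeometry Opposite

namespace Groth.Agent.EtSix.H3.ConstPf

open Groth.Agent.EtpbcB Groth.Agent.EtSix.H3.SqM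

section

variable (Λ : Type (u + 1)) [CommRing Λ] {X Y X' Y' : Scheme.{u}}

/-- `Λ_Y ⟶ f_* Λ_X`, the transpose of `f^* Λ_Y ≅ Λ_X`. -/
noncomputable def cmap (f : X ⟶ Y) : EtSix.constΛ Λ Y ⟶ (EtModW.push Λ f).obj (EtSix.constΛ Λ X) :=
  (EtSix.pullPushModAdj Λ f).homEquiv _ _ (EtSix.pullConstΛ Λ f).hom

lemma cmap_sec (f : X ⟶ Y) :
    (EtSix.constModAdj Λ Y).homEquiv (ModuleCat.of Λ Λ) _ (cmap Λ f) =
      (EtSix.constModAdj Λ X).unit.app (ModuleCat.of Λ Λ) ≫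
        (EtSix.pushGsecModIso Λ f).inv.app (EtSix.constΛ Λ X) := by
  have h := Adjunction.homEquiv_leftAdjointUniq_hom_app
    (((EtSix.constModAdj Λ Y).comp (EtSix.pullPushModAdj Λ f)).ofNatIsoRight (EtSix.pushGsecModIso Λ f))
    (EtSix.constModAdj Λ X) (ModuleCat.of Λ Λ)
  rw [Adjunction.homEquiv_ofNatIsoRight_apply, Adjunction.comp_homEquiv] at h
  rw [← h, Category.assoc]
  erw [Iso.hom_inv_id_app, Category.comp_id]
  rfl

lemma pushGsec_inv_app (f : X ⟶ Y) (M : EtModW.Mod Λ X) :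
    (EtSix.pushGsecModIso Λ f).inv.app M = M.obj.map (EtCore.bcTopIso f).hom.op := rfl

variable {Λ}
variable {f : X ⟶ Y} {g : Y' ⟶ Y} {f' : X' ⟶ Y'} {g' : X' ⟶ X}

/-- The comparison of global sections along a commutative square. -/
lemma pushGsec_sq (w : g' ≫ f = f' ≫ g) (M : EtModW.Mod Λ X') :
    (EtSix.pushGsecModIso Λ g').inv.app M ≫
        (EtSix.pushGsecModIso Λ f).inv.app ((EtModW.push Λ g').obj M) ≫
          (EtSix.gsecMod Λ Y).map ((sqM Λ w).hom.app M) =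
      (EtSix.pushGsecModIso Λ f').inv.app M ≫
        (EtSix.pushGsecModIso Λ g).inv.app ((EtModW.push Λ f').obj M) := by
  have h1 : (EtSix.gsecMod Λ Y).map ((sqM Λ w).hom.app M) =
      M.obj.map (BCCalc.theta w (EtCoh.top Y)).hom.op := sqM_hom_app_app w M (EtCoh.top Y)
  have h2 : (EtSix.pushGsecModIso Λ f).inv.app ((EtModW.push Λ g').obj M) =
      M.obj.map ((EtCoh.bc g').map (EtCore.bcTopIso f).hom).op := rfl
  have h3 : (EtSix.pushGsecModIso Λ g).inv.app ((EtModW.push Λ f').obj M) =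
      M.obj.map ((EtCoh.bc f').map (EtCore.bcTopIso g).hom).op := rfl
  rw [h1, h2, h3, pushGsec_inv_app, pushGsec_inv_app]
  erw [← Functor.map_comp, ← Functor.map_comp, ← Functor.map_comp]
  congr 1
  rw [← op_comp, ← op_comp, ← op_comp]
  congr 1
  exact (EtCore.topIsTerminal X').hom_ext _ _

/-- Compatibility of `cmap` with commutative squares. -/
lemma cmap_sq (w : g' ≫ f = f' ≫ g) :
    cmap Λ f ≫ (EtModW.push Λ f).map (cmap Λ g') ≫ (sqM Λ w).hom.app (EtSix.constΛ Λ X') =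
      cmap Λ g ≫ (EtModW.push Λ g).map (cmap Λ f') := by
  apply ((EtSix.constModAdj Λ Y).homEquiv (ModuleCat.of Λ Λ) _).injective
  rw [Adjunction.homEquiv_naturality_right, Adjunction.homEquiv_naturality_right, cmap_sec, cmap_sec,
    Functor.map_comp]
  have n1 : (EtSix.pushGsecModIso Λ f).inv.app (EtSix.constΛ Λ X) ≫
      (EtSix.gsecMod Λ Y).map ((EtModW.push Λ f).map (cmap Λ g')) =
      (EtSix.gsecMod Λ X).map (cmap Λ g') ≫ (EtSix.pushGsecModIso Λ f).inv.app _ :=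
    ((EtSix.pushGsecModIso Λ f).inv.naturality (cmap Λ g')).symm
  have n2 : (EtSix.pushGsecModIso Λ g).inv.app (EtSix.constΛ Λ Y') ≫
      (EtSix.gsecMod Λ Y).map ((EtModW.push Λ g).map (cmap Λ f')) =
      (EtSix.gsecMod Λ Y').map (cmap Λ f') ≫ (EtSix.pushGsecModIso Λ g).inv.app _ :=
    ((EtSix.pushGsecModIso Λ g).inv.naturality (cmap Λ f')).symm
  have e1 := cmap_sec Λ g'
  have e2 := cmap_sec Λ f'
  rw [Adjunction.homEquiv_unit] at e1 e2
  simp only [Category.assoc]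
  rw [reassoc_of% n1, n2, reassoc_of% e1, reassoc_of% e2, pushGsec_sq w]

/-- `cmap g ≫ g_* x` is the transpose of `g^* Λ ≅ Λ ⟶ M`. -/
lemma cmap_comp_eq (g : Y' ⟶ Y) {M : EtModW.Mod Λ Y'} (x : EtSix.constΛ Λ Y' ⟶ M) :
    cmap Λ g ≫ (EtModW.push Λ g).map x =
      (EtSix.pullPushModAdj Λ g).homEquiv _ _ ((EtSix.pullConstΛ Λ g).hom ≫ x) := by
  rw [Adjunction.homEquiv_naturality_right]
  rfl

lemma eq_of_cmap_comp (g : Y' ⟶ Y) {M : EtModW.Mod Λ Y'} {x y : EtSix.constΛ Λ Y' ⟶ M}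
    (h : cmap Λ g ≫ (EtModW.push Λ g).map x = cmap Λ g ≫ (EtModW.push Λ g).map y) : x = y := by
  rw [cmap_comp_eq, cmap_comp_eq] at h
  exact (cancel_epi (EtSix.pullConstΛ Λ g).hom).1 (((EtSix.pullPushModAdj Λ g).homEquiv _ _).injective h)

/-- The section of `f^* M` given by pullback of a section `a` of `M`. -/
noncomputable def pb (f : X ⟶ Y) {M : EtModW.Mod Λ Y} (a : EtSix.constΛ Λ Y ⟶ M) :
    EtSix.constΛ Λ X ⟶ (EtModW.pull Λ f).obj M :=
  (EtSix.pullConstΛ Λ f).inv ≫ (EtModW.pull Λ f).map a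

/-- The section of `f_* M` given by a section `a` of `M`. -/
noncomputable def pf (f : X ⟶ Y) {M : EtModW.Mod Λ X} (a : EtSix.constΛ Λ X ⟶ M) :
    EtSix.constΛ Λ Y ⟶ (EtModW.push Λ f).obj M :=
  cmap Λ f ≫ (EtModW.push Λ f).map a

lemma pf_eq_homEquiv (f : X ⟶ Y) {M : EtModW.Mod Λ X} (a : EtSix.constΛ Λ X ⟶ M) :
    pf f a = (EtSix.pullPushModAdj Λ f).homEquiv _ _ ((EtSix.pullConstΛ Λ f).hom ≫ a) := cmap_comp_eq f a

lemma pf_comp (f : X ⟶ Y) {M N : EtModW.Mod Λ X} (a : EtSix.constΛ Λ X ⟶ M) (φ : M ⟶ N) :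
    pf f (a ≫ φ) = pf f a ≫ (EtModW.push Λ f).map φ := by
  simp only [pf, Functor.map_comp, Category.assoc]

lemma pb_comp (f : X ⟶ Y) {M N : EtModW.Mod Λ Y} (a : EtSix.constΛ Λ Y ⟶ M) (φ : M ⟶ N) :
    pb f (a ≫ φ) = pb f a ≫ (EtModW.pull Λ f).map φ := by
  simp only [pb, Functor.map_comp, Category.assoc]

lemma pf_injective (f : X ⟶ Y) {M : EtModW.Mod Λ X} : Function.Injective (pf (Λ := Λ) f (M := M)) :=
  fun _ _ h => eq_of_cmap_comp f h

lemma pf_surjective (f : X ⟶ Y) {M : EtModW.Mod Λ X} : Function.Surjective (pf (Λ := Λ) f (M := M)) := by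
  intro b
  refine ⟨(EtSix.pullConstΛ Λ f).inv ≫ ((EtSix.pullPushModAdj Λ f).homEquiv _ _).symm b, ?_⟩
  rw [pf_eq_homEquiv, Iso.hom_inv_id_assoc, Equiv.apply_symm_apply]

/-- The pushforward of the pullback of a section. -/
lemma pf_pb (f : X ⟶ Y) {M : EtModW.Mod Λ Y} (a : EtSix.constΛ Λ Y ⟶ M) :
    pf f (pb f a) = a ≫ (EtSix.pullPushModAdj Λ f).unit.app M := by
  rw [pf_eq_homEquiv, pb, Iso.hom_inv_id_assoc, Adjunction.homEquiv_unit]
  exact ((EtSix.pullPushModAdj Λ f).unit.naturality a).symm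

/-- Compatibility of pullback and pushforward of sections with base change. -/
lemma pb_pf_bc (w : g' ≫ f = f' ≫ g) {K : EtModW.Mod Λ X} (a : EtSix.constΛ Λ X ⟶ K) :
    pb g (pf f a) ≫ EtSix.baseChange0Mod Λ f g f' g' w K = pf f' (pb g' a) := by
  apply pf_injective g
  rw [pf_comp, pf_pb, Category.assoc, unit_baseChange0Mod, pf, Category.assoc, ← Functor.map_comp_assoc, ← pf_pb,
    pf, Functor.map_comp_assoc]
  have n := (sqM Λ w).hom.naturality (pb g' a)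
  simp only [Functor.comp_map] at n
  rw [n, pf, pf]
  have := cmap_sq (Λ := Λ) w
  rw [reassoc_of% this, Functor.map_comp]

end

end Groth.Agent.EtSix.H3.ConstPf
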