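import Mathlib.Algebra.Homology.DerivedCategory.Ext.Map
import Mathlib.Algebra.Homology.DerivedCategory.Ext.ExactSequences

/-!
# A devissage for maps given by composition with fixed Ext classes

`F : C ⥤ D` exact, `ξ b ∈ Ext^{d b}(P', F P)` (`b : B`).  For `L : C` consider the maps
`⊕_{b, d b ≤ n} Ext^{n - d b}(P, L) → Ext^n(P', F L)`, `(β_b) ↦ ∑ ξ b ∘ F(β_b)`.  If they are bijective (for all
`n`) for a class of objects into which every object embeds, they are bijective for all `L`.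
The bijectivity is formulated elementwise (`Inj`, `Surj`); the main result is `inj_and_surj`.
-/

set_option autoImplicit false

universe w w' v v' u u' t

open CategoryTheory CategoryTheory.Limits CategoryTheory.Abelian

namespace Groth.Agent.EtSix.H3.DeltaInd

variable {C : Type u} [Category.{v} C] [Abelian C] [HasExt.{w} C]
  {D : Type u'} [Category.{v'} D] [Abelian D] [HasExt.{w'} D]
  (F : C ⥤ D) [F.Additive] [PreservesFiniteLimits F] [PreservesFiniteColimits F]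
  {P : C} {P' : D} {B : Type t} {d : B → ℕ} (ξ : ∀ b, Ext.{w'} P' (F.obj P) (d b))

/-- The class of the image of a short exact sequence. -/
noncomputable def ecl {S : ShortComplex C} (hS : S.ShortExact) : Ext.{w'} (F.obj S.X₃) (F.obj S.X₁) 1 :=
  (hS.map_of_exact F).extClass

theorem mapExactFunctor_extClass {S : ShortComplex C} (hS : S.ShortExact) :
    (hS.extClass : Ext.{w} S.X₃ S.X₁ 1).mapExactFunctor F = ecl F hS :=
  Ext.mapExactFunctor_extClass F hS

/-- The map `β ↦ ξ b ∘ F(β)`. -/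
noncomputable def phi (b : B) {q m : ℕ} (h : d b + q = m) (L : C) : Ext.{w} P L q →+ Ext.{w'} P' (F.obj L) m :=
  AddMonoidHom.mk' (fun β => (ξ b).comp (β.mapExactFunctor F) h)
    (fun β β' => by rw [Ext.mapExactFunctor_add, Ext.comp_add])

theorem phi_apply (b : B) {q m : ℕ} (h : d b + q = m) (L : C) (β : Ext.{w} P L q) :
    phi F ξ b h L β = (ξ b).comp (β.mapExactFunctor F) h := rfl

theorem phi_comp (b : B) {q m r q' m' : ℕ} (h : d b + q = m) {L L' : C} (β : Ext.{w} P L q)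
    (e : Ext.{w} L L' r) (hq : q + r = q') (hm : m + r = m') (h' : d b + q' = m') :
    phi F ξ b h' L' (β.comp e hq) = (phi F ξ b h L β).comp (e.mapExactFunctor F) hm := by
  rw [phi_apply, phi_apply, Ext.mapExactFunctor_comp, Ext.comp_assoc]
  omega

theorem phi_comp_mk₀ (b : B) {q m : ℕ} (h : d b + q = m) {L L' : C} (β : Ext.{w} P L q)
    (f : L ⟶ L') :
    phi F ξ b h L' (β.comp (Ext.mk₀ f) (add_zero q)) =
      (phi F ξ b h L β).comp (Ext.mk₀ (F.map f)) (add_zero m) := by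
  rw [phi_comp F ξ b h β (Ext.mk₀ f) (add_zero q) (add_zero m) h, Ext.mapExactFunctor_mk₀]

theorem phi_comp_extClass (b : B) {q m q' m' : ℕ} (h : d b + q = m) {S : ShortComplex C} (hS : S.ShortExact)
    (β : Ext.{w} P S.X₃ q) (hq : q + 1 = q') (hm : m + 1 = m') (h' : d b + q' = m') :
    phi F ξ b h' S.X₁ (β.comp hS.extClass hq) =
      (phi F ξ b h S.X₃ β).comp (ecl F hS) hm := by
  rw [phi_comp F ξ b h β hS.extClass hq hm h', mapExactFunctor_extClass]

/-- The total map on a finite family. -/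
noncomputable def tot (s : Finset B) {n : ℕ} (hs : ∀ b ∈ s, d b ≤ n) (L : C)
    (β : ∀ b, Ext.{w} P L (n - d b)) : Ext.{w'} P' (F.obj L) n :=
  ∑ b : s, phi F ξ b.1 (Nat.add_sub_cancel' (hs b.1 b.2)) L (β b.1)

/-- Injectivity of the total map in degree `n`. -/
def Inj (n : ℕ) (L : C) : Prop :=
  ∀ (s : Finset B) (hs : ∀ b ∈ s, d b ≤ n) (β : ∀ b, Ext.{w} P L (n - d b)),
    tot F ξ s hs L β = 0 → ∀ b ∈ s, β b = 0

/-- Surjectivity of the total map in degree `n`. -/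
def Surj (n : ℕ) (L : C) : Prop :=
  ∀ z : Ext.{w'} P' (F.obj L) n, ∃ (s : Finset B) (hs : ∀ b ∈ s, d b ≤ n)
    (β : ∀ b, Ext.{w} P L (n - d b)), tot F ξ s hs L β = z

section

variable {F ξ}

theorem tot_congr (s : Finset B) {n : ℕ} (hs : ∀ b ∈ s, d b ≤ n) {L : C}
    {β β' : ∀ b, Ext.{w} P L (n - d b)} (h : ∀ b ∈ s, β b = β' b) :
    tot F ξ s hs L β = tot F ξ s hs L β' :=
  Finset.sum_congr rfl fun b _ => by rw [h b.1 b.2]

theorem tot_mono {s s' : Finset B} (hss : s ⊆ s') {n : ℕ} (hs : ∀ b ∈ s, d b ≤ n) (hs' : ∀ b ∈ s', d b ≤ n)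
    {L : C} {β : ∀ b, Ext.{w} P L (n - d b)} (h : ∀ b ∈ s', b ∉ s → β b = 0) :
    tot F ξ s hs L β = tot F ξ s' hs' L β := by
  classical
  let g : B → Ext.{w'} P' (F.obj L) n := fun b =>
    if hb : d b ≤ n then phi F ξ b (Nat.add_sub_cancel' hb) L (β b) else 0
  have h1 : ∀ (t : Finset B) (ht : ∀ b ∈ t, d b ≤ n), tot F ξ t ht L β = ∑ b ∈ t, g b := by
    intro t ht
    rw [← Finset.sum_coe_sort t g]
    refine Finset.sum_congr rfl fun b _ => ?_
    have hb : d b.1 ≤ n := ht b.1 b.2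
    simp only [g]
    rw [dif_pos hb]
  rw [h1, h1]
  refine Finset.sum_subset hss (fun b hb hb' => ?_)
  simp only [g]
  split_ifs with h2
  · rw [h b hb hb', map_zero]
  · rfl

theorem tot_comp_mk₀ (s : Finset B) {n : ℕ} (hs : ∀ b ∈ s, d b ≤ n) {L L' : C}
    (β : ∀ b, Ext.{w} P L (n - d b)) (f : L ⟶ L') :
    tot F ξ s hs L' (fun b => (β b).comp (Ext.mk₀ f) (add_zero _)) =
      (tot F ξ s hs L β).comp (Ext.mk₀ (F.map f)) (add_zero n) := by
  unfold tot
  rw [Ext.sum_comp]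
  exact Finset.sum_congr rfl fun b _ => phi_comp_mk₀ F ξ b.1 _ _ _

theorem tot_sub (s : Finset B) {n : ℕ} (hs : ∀ b ∈ s, d b ≤ n) {L : C}
    (β β' : ∀ b, Ext.{w} P L (n - d b)) :
    tot F ξ s hs L (fun b => β b - β' b) = tot F ξ s hs L β - tot F ξ s hs L β' := by
  unfold tot
  rw [← Finset.sum_sub_distrib]
  exact Finset.sum_congr rfl fun b _ => map_sub _ _ _

theorem tot_add (s : Finset B) {n : ℕ} (hs : ∀ b ∈ s, d b ≤ n) {L : C}
    (β β' : ∀ b, Ext.{w} P L (n - d b)) :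
    tot F ξ s hs L (fun b => β b + β' b) = tot F ξ s hs L β + tot F ξ s hs L β' := by
  unfold tot
  rw [← Finset.sum_add_distrib]
  exact Finset.sum_congr rfl fun b _ => map_add _ _ _

theorem tot_comp_extClass (s : Finset B) {n n' : ℕ} (hs : ∀ b ∈ s, d b ≤ n)
    (hs' : ∀ b ∈ s, d b ≤ n') (hn : n + 1 = n') {S : ShortComplex C} (hS : S.ShortExact)
    (h : ∀ b ∈ s, n - d b + 1 = n' - d b)
    (β : ∀ b, Ext.{w} P S.X₃ (n - d b)) (γ : ∀ b, Ext.{w} P S.X₁ (n' - d b))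
    (hγ : ∀ (b : B) (hb : b ∈ s), γ b = (β b).comp hS.extClass (h b hb)) :
    tot F ξ s hs' S.X₁ γ = (tot F ξ s hs S.X₃ β).comp (ecl F hS) hn := by
  unfold tot
  rw [Ext.sum_comp]
  refine Finset.sum_congr rfl fun b _ => ?_
  rw [hγ b.1 b.2]
  exact phi_comp_extClass F ξ b.1 _ hS _ (h b.1 b.2) hn _

/-- A representation whose coefficients vanish outside the finite set. -/
theorem exists_of_surj {n : ℕ} {L : C} (h : Surj F ξ n L) (z : Ext.{w'} P' (F.obj L) n) :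
    ∃ (s : Finset B) (hs : ∀ b ∈ s, d b ≤ n) (β : ∀ b, Ext.{w} P L (n - d b)),
      (∀ b, b ∉ s → β b = 0) ∧ tot F ξ s hs L β = z := by
  classical
  obtain ⟨s, hs, β, hβ⟩ := h z
  refine ⟨s, hs, fun b => if b ∈ s then β b else 0, fun b hb => if_neg hb, ?_⟩
  rw [← hβ]
  exact tot_congr s hs fun b hb => if_pos hb

/-- Devissage: the step for injectivity. -/
theorem inj_step {n : ℕ} {S : ShortComplex C} (hS : S.ShortExact)
    (hI : Inj F ξ n S.X₂) (hI' : ∀ m, m + 1 = n → Surj F ξ m S.X₂) (hQ : ∀ m, m + 1 = n → Inj F ξ m S.X₃) :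
    Inj F ξ n S.X₁ := by
  classical
  intro s hs β h0
  have h1 : ∀ b ∈ s, (β b).comp (Ext.mk₀ S.f) (add_zero _) = 0 := by
    refine hI s hs (fun b => (β b).comp (Ext.mk₀ S.f) (add_zero _)) ?_
    rw [tot_comp_mk₀, h0, Ext.zero_comp]
  -- the degrees `d b = n`
  have htop : ∀ b ∈ s, d b = n → β b = 0 := by
    intro b hb hd
    have := hS.mono_f
    have hn : n - d b = 0 := by omega
    have h2 := h1 b hb
    revert h2
    generalize β b = x
    revert x
    rw [hn]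
    intro x hx
    apply Ext.postcomp_mk₀_injective_of_mono P S.f
    rw [map_zero]
    exact hx
  rcases Nat.eq_zero_or_pos n with hn | hn
  · subst hn
    intro b hb
    exact htop b hb (Nat.le_zero.1 (hs b hb))
  obtain ⟨m, rfl⟩ : ∃ m, n = m + 1 := ⟨n - 1, by omega⟩
  let s' := s.filter (fun b => d b ≤ m)
  have hs' : ∀ b ∈ s', d b ≤ m := fun b hb => (Finset.mem_filter.1 hb).2
  have hs's : s' ⊆ s := Finset.filter_subset _ _
  have hdeg : ∀ b, d b ≤ m → m - d b + 1 = m + 1 - d b := fun b hb => by omega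
  have h2 : ∀ b, ∃ γ : Ext.{w} P S.X₃ (m - d b), ∀ hb : b ∈ s',
      γ.comp hS.extClass (hdeg b (hs' b hb)) = β b := by
    intro b
    by_cases hb : b ∈ s'
    · obtain ⟨γ, hγ⟩ := Ext.covariant_sequence_exact₁ P hS (β b) (h1 b (hs's hb)) (hdeg b (hs' b hb))
      exact ⟨γ, fun _ => hγ⟩
    · exact ⟨0, fun h => absurd h hb⟩
  choose γ hγ using h2
  have h3 : tot F ξ s' (fun b hb => hs b (hs's hb)) S.X₁ β = 0 := by
    rw [← h0]
    refine tot_mono hs's _ _ (fun b hb hb' => htop b hb ?_)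
    have h4 : ¬ d b ≤ m := fun h => hb' (Finset.mem_filter.2 ⟨hb, h⟩)
    have h5 := hs b hb
    omega
  have h4 : (tot F ξ s' hs' S.X₃ γ).comp (ecl F hS) rfl = 0 :=
    (tot_comp_extClass s' hs' _ rfl hS (fun b hb => hdeg b (hs' b hb)) γ β
      (fun b hb => (hγ b hb).symm)).symm.trans h3
  obtain ⟨u, hu⟩ := Ext.covariant_sequence_exact₃ P' (hS.map_of_exact F) (tot F ξ s' hs' S.X₃ γ) rfl h4
  obtain ⟨s'', hs'', υ, hυ0, hυ⟩ := exists_of_surj (hI' m rfl) u
  let γ' : ∀ b, Ext.{w} P S.X₃ (m - d b) := fun b => if b ∈ s' then γ b else 0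
  have hun : ∀ b ∈ s' ∪ s'', d b ≤ m := fun b hb => by
    rcases Finset.mem_union.1 hb with h | h
    · exact hs' b h
    · exact hs'' b h
  have h5 : tot F ξ (s' ∪ s'') hun S.X₃ (fun b => γ' b - (υ b).comp (Ext.mk₀ S.g) (add_zero _)) = 0 := by
    rw [tot_sub, sub_eq_zero]
    have h6 : tot F ξ (s' ∪ s'') hun S.X₃ γ' = tot F ξ s' hs' S.X₃ γ := by
      rw [← tot_mono Finset.subset_union_left hs' hun (fun b _ hb => if_neg hb)]
      exact tot_congr _ _ fun b hb => if_pos hb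
    rw [h6, tot_comp_mk₀, ← tot_mono Finset.subset_union_right hs'' hun (fun b _ hb => hυ0 b hb), hυ]
    exact hu.symm
  have h7 := hQ m rfl _ hun _ h5
  intro b hb
  by_cases hb' : b ∈ s'
  · have h8 := h7 b (Finset.mem_union_left _ hb')
    rw [sub_eq_zero] at h8
    have h9 : γ b = (υ b).comp (Ext.mk₀ S.g) (add_zero _) := by
      rw [← h8]; exact (if_pos hb').symm
    rw [← hγ b hb', h9, Ext.comp_assoc_of_second_deg_zero, hS.comp_extClass, Ext.comp_zero]
  · refine htop b hb ?_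
    have h4 : ¬ d b ≤ m := fun h => hb' (Finset.mem_filter.2 ⟨hb, h⟩)
    have h5 := hs b hb
    omega

/-- Devissage: the step for surjectivity. -/
theorem surj_step {n : ℕ} {S : ShortComplex C} (hS : S.ShortExact)
    (hI : Surj F ξ n S.X₂) (hQ : Inj F ξ n S.X₃) (hQ' : ∀ m, m + 1 = n → Surj F ξ m S.X₃) :
    Surj F ξ n S.X₁ := by
  classical
  intro z
  obtain ⟨s₁, hs₁, β₁, -, hβ₁⟩ := exists_of_surj hI (z.comp (Ext.mk₀ (F.map S.f)) (add_zero n))
  have h1 : ∀ b ∈ s₁, (β₁ b).comp (Ext.mk₀ S.g) (add_zero _) = 0 := by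
    refine hQ s₁ hs₁ (fun b => (β₁ b).comp (Ext.mk₀ S.g) (add_zero _)) ?_
    rw [tot_comp_mk₀, hβ₁, Ext.comp_assoc_of_third_deg_zero, Ext.mk₀_comp_mk₀, ← F.map_comp, S.zero,
      F.map_zero, Ext.mk₀_zero, Ext.comp_zero]
  have h2 : ∀ b, ∃ γ : Ext.{w} P S.X₁ (n - d b), b ∈ s₁ → γ.comp (Ext.mk₀ S.f) (add_zero _) = β₁ b := by
    intro b
    by_cases hb : b ∈ s₁
    · obtain ⟨γ, hγ⟩ := Ext.covariant_sequence_exact₂ P hS (β₁ b) (h1 b hb)
      exact ⟨γ, fun _ => hγ⟩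
    · exact ⟨0, fun h => absurd h hb⟩
  choose γ hγ using h2
  have h3 : (z - tot F ξ s₁ hs₁ S.X₁ γ).comp (Ext.mk₀ (F.map S.f)) (add_zero n) = 0 := by
    rw [sub_eq_add_neg, Ext.add_comp, Ext.neg_comp, ← sub_eq_add_neg, sub_eq_zero, ← tot_comp_mk₀, ← hβ₁]
    exact tot_congr _ _ fun b hb => (hγ b hb).symm
  rcases Nat.eq_zero_or_pos n with hn | hn
  · subst hn
    have := hS.mono_f
    refine ⟨s₁, hs₁, γ, ?_⟩
    have h4 : z - tot F ξ s₁ hs₁ S.X₁ γ = 0 := by
      apply Ext.postcomp_mk₀_injective_of_mono P' (F.map S.f)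
      rw [map_zero]
      exact h3
    exact (sub_eq_zero.1 h4).symm
  obtain ⟨m, rfl⟩ : ∃ m, n = m + 1 := ⟨n - 1, by omega⟩
  obtain ⟨x, hx⟩ := Ext.covariant_sequence_exact₁ P' (hS.map_of_exact F) _ h3 rfl
  obtain ⟨s₂, hs₂, β₂, -, hβ₂⟩ := exists_of_surj (hQ' m rfl) x
  have hdeg : ∀ b, d b ≤ m → m - d b + 1 = m + 1 - d b := fun b hb => by omega
  have hs₂' : ∀ b ∈ s₂, d b ≤ m + 1 := fun b hb => (hs₂ b hb).trans (Nat.le_succ m)
  let δ₂ : ∀ b, Ext.{w} P S.X₁ (m + 1 - d b) := fun b =>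
    if hb : b ∈ s₂ then (β₂ b).comp hS.extClass (hdeg b (hs₂ b hb)) else 0
  have h5 : tot F ξ s₂ hs₂' S.X₁ δ₂ = z - tot F ξ s₁ hs₁ S.X₁ γ := by
    rw [← hx, ← hβ₂]
    exact tot_comp_extClass s₂ hs₂ hs₂' rfl hS (fun b hb => hdeg b (hs₂ b hb)) β₂ δ₂
      (fun b hb => dif_pos hb)
  let γ₁ : ∀ b, Ext.{w} P S.X₁ (m + 1 - d b) := fun b => if b ∈ s₁ then γ b else 0
  have hun : ∀ b ∈ s₁ ∪ s₂, d b ≤ m + 1 := fun b hb => by
    rcases Finset.mem_union.1 hb with h | h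
    · exact hs₁ b h
    · exact hs₂' b h
  refine ⟨s₁ ∪ s₂, hun, fun b => γ₁ b + δ₂ b, ?_⟩
  rw [tot_add, ← tot_mono Finset.subset_union_left hs₁ hun (fun b _ hb => if_neg hb),
    ← tot_mono Finset.subset_union_right hs₂' hun (fun b _ hb => dif_neg hb), h5,
    tot_congr s₁ hs₁ (fun b hb => if_pos hb : ∀ b ∈ s₁, γ₁ b = γ b)]
  abel

/-- Devissage: if every object embeds into an object for which the total maps are bijective in all degrees, they are
bijective for all objects. -/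
theorem inj_and_surj (G : C → Prop)
    (hG : ∀ L : C, ∃ (I : C) (f : L ⟶ I) (_ : Mono f), G I)
    (hGi : ∀ I, G I → ∀ n, Inj F ξ n I) (hGs : ∀ I, G I → ∀ n, Surj F ξ n I) (n : ℕ) :
    ∀ L : C, Inj F ξ n L ∧ Surj F ξ n L := by
  induction n using Nat.strong_induction_on with
  | _ n ih =>
    have h1 : ∀ L : C, Inj F ξ n L := by
      intro L
      obtain ⟨I, f, hf, hI⟩ := hG L
      have hS : (ShortComplex.mk f (cokernel.π f) (cokernel.condition f)).ShortExact :=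
        { exact := ShortComplex.exact_cokernel f }
      exact inj_step hS (hGi I hI n) (fun m _ => hGs I hI m) (fun m hm => (ih m (by omega) _).1)
    intro L
    refine ⟨h1 L, ?_⟩
    obtain ⟨I, f, hf, hI⟩ := hG L
    have hS : (ShortComplex.mk f (cokernel.π f) (cokernel.condition f)).ShortExact :=
      { exact := ShortComplex.exact_cokernel f }
    exact surj_step hS (hGs I hI n) (h1 _) (fun m hm => (ih m (by omega) _).2)

end

end Groth.Agent.EtSix.H3.DeltaInd
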