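import Mathlib.CategoryTheory.Limits.Preserves.Basic
import Mathlib.CategoryTheory.Limits.Preserves.Limits
import Mathlib.CategoryTheory.Limits.Preserves.Shapes.Products
import Mathlib.CategoryTheory.Adjunction.Limits
import Mathlib.CategoryTheory.Adjunction.FullyFaithful
import Mathlib.CategoryTheory.Limits.Constructions.Over.Basic
import Mathlib.CategoryTheory.Abelian.Basic

/-!
# A zigzag argument for natural transformations

* `copr B C : C ⥤ C`, `L ↦ ∐_B L`;
* `isIso_map_app`: let `Ψ : F ⟶ G` be a transformation of endofunctors of `C`, `P : C ⥤ D` with fully faithful right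
  adjoint; if `F ⋙ P` and `G ⋙ P` send `P`-isomorphisms to isomorphisms and preserve coproducts of copies of an
  object `E`, if every `P L` is isomorphic to some `P (∐ E)`, and if `Ψ E` is an isomorphism, then `P (Ψ L)` is an
  isomorphism for all `L`.
-/

set_option autoImplicit false
universe w v v' u u'

open CategoryTheory CategoryTheory.Limits

namespace Groth.Agent.EtSix.H3.Zigzag

section copr

variable (B : Type w) (C : Type u) [Category.{v} C] [HasCoproductsOfShape B C]

/-- The functor `L ↦ ∐_B L`. -/
noncomputable def copr : C ⥤ C where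
  obj L := ∐ fun _ : B => L
  map φ := Limits.Sigma.map fun _ => φ
  map_id L := Limits.Sigma.hom_ext _ _ fun _ => by simp
  map_comp f g := Limits.Sigma.hom_ext _ _ fun _ => by simp

/-- `copr` as the composite of the diagonal and the colimit functors. -/
noncomputable def coprIso : copr B C ≅ Functor.const (Discrete B) ⋙ colim :=
  NatIso.ofComponents
    (fun L => HasColimit.isoOfNatIso (Discrete.natIso (F := Discrete.functor fun _ : B => L)
      (G := (Functor.const (Discrete B)).obj L) (fun _ => Iso.refl L)))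
    (fun {L L'} φ => by
      apply Limits.Sigma.hom_ext
      intro b
      change Limits.Sigma.ι (fun _ : B => L) b ≫ Limits.Sigma.map (fun _ => φ) ≫ _ =
        colimit.ι (Discrete.functor fun _ : B => L) ⟨b⟩ ≫ _ ≫ colimMap _
      rw [Limits.Sigma.ι_map_assoc, HasColimit.isoOfNatIso_ι_hom_assoc, ι_colimMap]
      have := HasColimit.isoOfNatIso_ι_hom (Discrete.natIso (F := Discrete.functor fun _ : B => L')
        (G := (Functor.const (Discrete B)).obj L') (fun _ => Iso.refl L')) ⟨b⟩
      refine (congrArg (φ ≫ ·) this).trans ?_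
      simp)

variable {B C}

lemma isLeftAdjoint_copr [HasProductsOfShape B C] : (copr B C).IsLeftAdjoint := by
  have h1 : (Functor.const (Discrete B) : C ⥤ _).IsLeftAdjoint := constLimAdj.isLeftAdjoint
  have h2 : (colim : (Discrete B ⥤ C) ⥤ C).IsLeftAdjoint := colimConstAdj.isLeftAdjoint
  have h3 : (Functor.const (Discrete B) ⋙ colim : C ⥤ C).IsLeftAdjoint := inferInstance
  exact ((Adjunction.ofIsLeftAdjoint (Functor.const (Discrete B) ⋙ colim : C ⥤ C)).ofNatIsoLeft
    (coprIso B C).symm).isLeftAdjoint

lemma isIso_map_copr_map {D : Type u'} [Category.{v'} D] (P : C ⥤ D) [PreservesColimitsOfShape (Discrete B) P]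
    {L L' : C} (φ : L ⟶ L') [IsIso (P.map φ)] : IsIso (P.map ((copr B C).map φ)) := by
  let α : Discrete.functor (fun _ : B => L) ⋙ P ⟶ Discrete.functor (fun _ : B => L') ⋙ P :=
    Discrete.natTrans (fun _ => P.map φ)
  have hα : IsIso α := by
    have : ∀ X, IsIso (α.app X) := fun X => inferInstanceAs (IsIso (P.map φ))
    exact NatIso.isIso_of_isIso_app α
  let c := coproductIsCoproduct (fun _ : B => L)
  let c' := coproductIsCoproduct (fun _ : B => L')
  let e := IsColimit.coconePointsIsoOfNatIso (isColimitOfPreserves P c) (isColimitOfPreserves P c') (asIso α)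
  have he : e.hom = P.map ((copr B C).map φ) := by
    apply (isColimitOfPreserves P c).hom_ext
    rintro ⟨b⟩
    rw [IsColimit.comp_coconePointsIsoOfNatIso_hom]
    change P.map φ ≫ P.map (Limits.Sigma.ι (fun _ : B => L') b) =
      P.map (Limits.Sigma.ι (fun _ : B => L) b) ≫ P.map (Limits.Sigma.map fun _ => φ)
    rw [← P.map_comp, ← P.map_comp, Limits.Sigma.ι_map]
  rw [← he]
  infer_instance

end copr

section zigzag

variable {C : Type u} [Category.{v} C] {D : Type u'} [Category.{v'} D] {F G : C ⥤ C} (Ψ : F ⟶ G) (P : C ⥤ D)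
  {R : D ⥤ C} (adj : P ⊣ R) [IsIso adj.counit] (E : C) [∀ T : Type w, HasCoproductsOfShape T C]

include adj in
/-- The zigzag argument. -/
theorem isIso_map_app
    (hF : ∀ {L L' : C} (φ : L ⟶ L'), IsIso (P.map φ) → IsIso (P.map (F.map φ)))
    (hG : ∀ {L L' : C} (φ : L ⟶ L'), IsIso (P.map φ) → IsIso (P.map (G.map φ)))
    (pF : ∀ T : Type w, PreservesColimitsOfShape (Discrete T) (F ⋙ P))
    (pG : ∀ T : Type w, PreservesColimitsOfShape (Discrete T) (G ⋙ P))
    (hP : ∀ L : C, ∃ T : Type w, Nonempty (P.obj (∐ fun _ : T => E) ≅ P.obj L))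
    (hE : IsIso (Ψ.app E)) (L : C) : IsIso (P.map (Ψ.app L)) := by
  have step : ∀ {L L' : C} (φ : L ⟶ L'), IsIso (P.map φ) →
      (IsIso (P.map (Ψ.app L)) ↔ IsIso (P.map (Ψ.app L'))) := by
    intro L L' φ hφ
    have h1 := hF φ hφ
    have h2 := hG φ hφ
    have h3 : P.map (F.map φ) ≫ P.map (Ψ.app L') = P.map (Ψ.app L) ≫ P.map (G.map φ) := by
      rw [← P.map_comp, ← P.map_comp, Ψ.naturality]
    constructor
    · intro h
      have h4 : IsIso (P.map (F.map φ) ≫ P.map (Ψ.app L')) := by
        rw [h3]
        infer_instance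
      exact IsIso.of_isIso_comp_left (P.map (F.map φ)) _
    · intro h
      have h4 : IsIso (P.map (Ψ.app L) ≫ P.map (G.map φ)) := by
        rw [← h3]
        infer_instance
      exact IsIso.of_isIso_comp_right _ (P.map (G.map φ))
  obtain ⟨T, ⟨e⟩⟩ := hP L
  have h1 : IsIso (P.map (adj.unit.app L)) := isIso_of_comp_hom_eq_id _ (adj.left_triangle_components L)
  refine (step (adj.unit.app L) h1).2 ?_
  let v : (∐ fun _ : T => E) ⟶ R.obj (P.obj L) := adj.homEquiv _ _ e.hom
  have h2 : IsIso (P.map v) := by
    have h3 : P.map v ≫ adj.counit.app (P.obj L) = e.hom := by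
      have := (adj.homEquiv _ _).symm_apply_apply e.hom
      rwa [Adjunction.homEquiv_counit] at this
    have h4 : IsIso (P.map v ≫ adj.counit.app (P.obj L)) := by
      rw [h3]
      infer_instance
    exact IsIso.of_isIso_comp_right _ (adj.counit.app (P.obj L))
  refine (step v h2).1 ?_
  have h5 := pF T
  have h6 := pG T
  let τ : F ⋙ P ⟶ G ⋙ P := Functor.whiskerRight Ψ P
  have h7 : IsIso (Functor.whiskerLeft (Discrete.functor fun _ : T => E) τ) := by
    have : ∀ X, IsIso ((Functor.whiskerLeft (Discrete.functor fun _ : T => E) τ).app X) := by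
      intro X
      change IsIso (P.map (Ψ.app E))
      infer_instance
    exact NatIso.isIso_of_isIso_app _
  exact isIso_app_coconePt_of_preservesColimit _ τ _ (coproductIsCoproduct fun _ : T => E)

end zigzag

end Groth.Agent.EtSix.H3.Zigzag
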