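import Groth.Agent.Etrest.RpushSum
import Groth.Agent.Etrest.ModAb
import Groth.Agent.Sga4h.ModDTensor
import Groth.Agent.Sga4h.BidTens
import Groth.Agent.EtSix.H3.Zigzag
import Groth.Prelude.Def_SixF2

/-!
# Coproducts and the functors `f_*`, `f^*`, `A ⊗ -` on sheaves of `Λ`-modules

* `preservesColimitsOfShape_push`: direct images along quasi-compact quasi-separated morphisms preserve coproducts
  indexed by `Type (u + 1)`;
* `isIso_sigma_desc`: transport of "coproduct" families along coproduct preserving functors.
-/

set_option autoImplicit false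
universe w v v' u u'

open CategoryTheory CategoryTheory.Limits AlgebraicGeometry Opposite

namespace Groth.Agent.EtSix.H3.PushMod

open Groth.Agent.Etrest.ModAb Groth.Agent.Etrest

section Abstract

variable {C : Type u} [Category.{v} C] {D : Type u'} [Category.{v'} D]

/-- If `(x t : E ⟶ M)` exhibits `M` as a coproduct of copies of `E` then `(e ≫ P (x t) : E' ⟶ P M)` exhibits `P M` as
a coproduct of copies of `E'`. -/
theorem isIso_sigma_desc {T : Type w} [HasCoproductsOfShape T C] [HasCoproductsOfShape T D] (P : C ⥤ D)
    [PreservesColimitsOfShape (Discrete T) P] {E M : C} {E' : D} (e : E' ⟶ P.obj E) [IsIso e] (x : T → (E ⟶ M))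
    [IsIso (Limits.Sigma.desc x)] : IsIso (Limits.Sigma.desc (fun t => e ≫ P.map (x t))) := by
  have h : Limits.Sigma.desc (fun t => e ≫ P.map (x t)) =
      Limits.Sigma.map (fun _ => e) ≫ sigmaComparison P (fun _ : T => E) ≫ P.map (Limits.Sigma.desc x) := by
    apply Limits.Sigma.hom_ext
    intro t
    rw [Limits.Sigma.ι_desc, Limits.Sigma.ι_map_assoc, ι_comp_sigmaComparison_assoc, ← P.map_comp,
      Limits.Sigma.ι_desc]
  have h2 : IsIso (Limits.Sigma.map (fun _ : T => e)) := inferInstance
  rw [h]
  infer_instance

end Abstract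

variable {Λ : Type (u + 1)} [CommRing Λ] {X Y : Scheme.{u}} (ι : Type (u + 1))

theorem hasCoproducts_mod : HasColimitsOfShape (Discrete ι) (ModuleCat.{u + 1} Λ) := inferInstance

/-- Coproducts of sheaves of modules indexed by `Type (u + 1)`. -/
instance hasColimitsOfShape_discrete (X : Scheme.{u}) : HasColimitsOfShape (Discrete ι) (EtModW.Mod Λ X) :=
  @Sheaf.instHasColimitsOfShape _ _ X.smallEtaleTopology (ModuleCat.{u + 1} Λ) _ (Discrete ι) _ _
    (hasCoproducts_mod ι)

/-- Products of sheaves of modules indexed by `Type (u + 1)`. -/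
instance hasLimitsOfShape_discrete (X : Scheme.{u}) : HasLimitsOfShape (Discrete ι) (EtModW.Mod Λ X) := inferInstance

/-- Direct images of sheaves of modules along quasi-compact quasi-separated morphisms preserve coproducts. -/
theorem preservesColimitsOfShape_push (f : X ⟶ Y) [QuasiCompact f] [QuasiSeparated f] :
    PreservesColimitsOfShape (Discrete ι) (EtModW.push Λ f) := by
  have h0 := RpushSum.preservesColimitsOfShape_push ι f
  have h1 : PreservesColimitsOfShape (Discrete ι) (ab Λ X ⋙ EtCoh.push f) := inferInstance
  have h2 : PreservesColimitsOfShape (Discrete ι) (EtModW.push Λ f ⋙ ab Λ Y) :=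
    preservesColimitsOfShape_of_natIso (pushIso Λ f).symm
  have h3 : ReflectsColimitsOfShape (Discrete ι) (ab Λ Y) := reflectsColimitsOfShape_of_reflectsIsomorphisms
  exact preservesColimitsOfShape_of_reflects_of_preserves (EtModW.push Λ f) (ab Λ Y)

/-- Inverse images of sheaves of modules preserve coproducts. -/
theorem preservesColimitsOfShape_pull (f : X ⟶ Y) :
    PreservesColimitsOfShape (Discrete ι) (EtModW.pull Λ f) :=
  have : PreservesColimitsOfSize.{u + 1, u + 1} (EtModW.pull Λ f) :=
    (EtSix.pullPushModAdj Λ f).leftAdjoint_preservesColimits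
  inferInstance

/-- `A ⊗ -` preserves coproducts. -/
theorem preservesColimitsOfShape_tensor (A : EtModW.Mod Λ X) :
    PreservesColimitsOfShape (Discrete ι) ((EtModD.tensorBi Λ X).obj A) :=
  have : PreservesColimitsOfSize.{u + 1, u + 1} ((EtModD.tensorBi Λ X).obj A) :=
    (Adjunction.ofIsLeftAdjoint ((EtModD.tensorBi Λ X).obj A)).leftAdjoint_preservesColimits
  inferInstance

end Groth.Agent.EtSix.H3.PushMod
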