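import Groth.Prelude.Def_SixF2
import Groth.Agent.EtSix.H3.PushMod

/-!
# Sections as morphisms from the constant sheaf

`sec x` for `x : Λ_Y ⟶ M`: the global section of `M` given by `x`; it is additive, bijective, and for `Y` quasi-compact
quasi-separated every `x : Λ_Y ⟶ ∐ L` is a finite sum of morphisms `Λ_Y ⟶ L i ⟶ ∐ L`.
-/

set_option autoImplicit false
universe u

open CategoryTheory CategoryTheory.Limits AlgebraicGeometry Opposite

namespace Groth.Agent.EtSix.H3.Sec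

open Groth.Agent.Etrest.ModAb Groth.Agent.Etrest

variable {Λ : Type (u + 1)} [CommRing Λ] {Y : Scheme.{u}}

/-- The global section given by a morphism from the constant sheaf. -/
noncomputable def sec {M : EtModW.Mod Λ Y} (x : EtSix.constΛ Λ Y ⟶ M) : (EtSix.gsecMod Λ Y).obj M :=
  ((EtSix.constModAdj Λ Y).homEquiv (ModuleCat.of Λ Λ) M x).hom (1 : Λ)

lemma sec_comp {M N : EtModW.Mod Λ Y} (x : EtSix.constΛ Λ Y ⟶ M) (φ : M ⟶ N) :
    sec (x ≫ φ) = ((EtSix.gsecMod Λ Y).map φ).hom (sec x) := by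
  unfold sec
  rw [Adjunction.homEquiv_naturality_right, ModuleCat.hom_comp]
  rfl

lemma sec_add {M : EtModW.Mod Λ Y} (x y : EtSix.constΛ Λ Y ⟶ M) : sec (x + y) = sec x + sec y := by
  unfold sec
  rw [Adjunction.homEquiv_unit, Adjunction.homEquiv_unit, Adjunction.homEquiv_unit]
  rfl

variable (Y) in
/-- `sec` as a homomorphism. -/
noncomputable def secHom (M : EtModW.Mod Λ Y) : (EtSix.constΛ Λ Y ⟶ M) →+ (EtSix.gsecMod Λ Y).obj M :=
  AddMonoidHom.mk' sec sec_add

lemma sec_injective {M : EtModW.Mod Λ Y} : Function.Injective (sec (Λ := Λ) (M := M)) := by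
  intro x y h
  apply ((EtSix.constModAdj Λ Y).homEquiv (ModuleCat.of Λ Λ) M).injective
  apply ModuleCat.hom_ext
  exact LinearMap.ext_ring h

lemma exists_sec {M : EtModW.Mod Λ Y} (m : (EtSix.gsecMod Λ Y).obj M) : ∃ x : EtSix.constΛ Λ Y ⟶ M, sec x = m := by
  refine ⟨((EtSix.constModAdj Λ Y).homEquiv (ModuleCat.of Λ Λ) M).symm
    (ModuleCat.ofHom (LinearMap.toSpanSingleton Λ _ m)), ?_⟩
  unfold sec
  rw [Equiv.apply_symm_apply]
  exact LinearMap.toSpanSingleton_apply_one Λ _ m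

/-- Morphisms from the constant sheaf to a big direct sum are finite sums. -/
theorem exists_finset_sum [CompactSpace Y] [QuasiSeparatedSpace Y] {ι : Type (u + 1)} (L : ι → EtModW.Mod Λ Y)
    (x : EtSix.constΛ Λ Y ⟶ ∐ L) : ∃ (I : Finset (Discrete ι)) (c : ∀ i : I, (EtSix.constΛ Λ Y ⟶ L i.1.as)),
      x = ∑ i : I, c i ≫ Limits.Sigma.ι L i.1.as := by
  classical
  have hp : PreservesColimitsOfShape (Discrete ι) (ab Λ Y) := inferInstance
  let θ : (∐ fun i => (ab Λ Y).obj (L i)) ⟶ (ab Λ Y).obj (∐ L) := sigmaComparison (ab Λ Y) L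
  have hθ : IsIso θ := inferInstance
  have hθι : ∀ i, Limits.Sigma.ι (fun i => (ab Λ Y).obj (L i)) i ≫ θ = (ab Λ Y).map (Limits.Sigma.ι L i) :=
    fun i => ι_comp_sigmaComparison (ab Λ Y) L i
  have hc1 : CompactSpace (EtCoh.top Y).left := inferInstanceAs (CompactSpace Y)
  have hc2 : QuasiSeparatedSpace (EtCoh.top Y).left := inferInstanceAs (QuasiSeparatedSpace Y)
  let s : EtCoh.sect ((ab Λ Y).obj (∐ L)) (EtCoh.top Y) := sec x
  obtain ⟨I, t, ht⟩ := RpushSum.exists_finset_sum (fun i => (ab Λ Y).obj (L i)) (EtCoh.top Y)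
    ((inv θ).hom.app (op (EtCoh.top Y)) s)
  have h1 : s = θ.hom.app (op (EtCoh.top Y)) ((inv θ).hom.app (op (EtCoh.top Y)) s) := by
    have := congrArg (fun φ : (ab Λ Y).obj (∐ L) ⟶ (ab Λ Y).obj (∐ L) => φ.hom.app (op (EtCoh.top Y)) s)
      (IsIso.inv_hom_id θ)
    exact this.symm
  have h2 : s = ∑ i : I, ((ab Λ Y).map (Limits.Sigma.ι L i.1.as)).hom.app (op (EtCoh.top Y)) (t i) := by
    rw [h1, ht]
    refine (map_sum (θ.hom.app (op (EtCoh.top Y))).hom _ _).trans ?_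
    refine Finset.sum_congr rfl fun i _ => ?_
    exact congrArg (fun α : (ab Λ Y).obj (L i.1.as) ⟶ (ab Λ Y).obj (∐ L) => α.hom.app (op (EtCoh.top Y)) (t i))
      (hθι i.1.as)
  choose c hc using fun i : I => exists_sec (M := L i.1.as) (t i)
  refine ⟨I, c, sec_injective ?_⟩
  change s = secHom Y (∐ L) _
  rw [map_sum, h2]
  refine Finset.sum_congr rfl fun i _ => ?_
  refine Eq.trans ?_ (sec_comp (c i) (Limits.Sigma.ι L i.1.as)).symm
  rw [hc]
  rfl

end Groth.Agent.EtSix.H3.Sec
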