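import Groth.Agent.Sga4h.ModPoint
import Groth.Agent.EtSix.H3.Sec
import Mathlib.LinearAlgebra.Basis.VectorSpace

/-!
# Sheaves of vector spaces on the spectrum of a separably closed field

Every sheaf of `Λ`-modules on `Spec k`, `k` separably closed, whose module of global sections is free is a direct sum
of copies of the constant sheaf, with a basis of global sections as components.
-/

set_option autoImplicit false
universe u

open CategoryTheory CategoryTheory.Limits AlgebraicGeometry Opposite

namespace Groth.Agent.EtSix.H3.FieldPt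

open Groth.Agent.EtSix.H3.Sec Groth.Agent.EtSix.H3.PushMod

variable {Λ : Type (u + 1)} [CommRing Λ]

/-- A basis exhibits a module as a coproduct of copies of the ring. -/
theorem isIso_desc_of_basis {V : ModuleCat.{u + 1} Λ} {T : Type (u + 1)} (b : Module.Basis T Λ V)
    (x : T → (ModuleCat.of Λ Λ ⟶ V)) (hx : ∀ t, (x t).hom (1 : Λ) = b t) : IsIso (Limits.Sigma.desc x) := by
  let c : Cofan (fun _ : T => ModuleCat.of Λ Λ) := Cofan.mk V x
  have hc : IsColimit c := Cofan.IsColimit.mk c
    (fun s => ModuleCat.ofHom (b.constr Λ (fun t => (s.inj t).hom (1 : Λ))))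
    (fun s t => by
      apply ModuleCat.hom_ext
      apply LinearMap.ext_ring
      change b.constr Λ (fun t => (s.inj t).hom (1 : Λ)) ((x t).hom (1 : Λ)) = (s.inj t).hom (1 : Λ)
      rw [hx, Module.Basis.constr_basis])
    (fun s m hm => by
      apply ModuleCat.hom_ext
      apply b.ext
      intro t
      rw [ModuleCat.hom_ofHom, Module.Basis.constr_basis, ← hx, ← hm t]
      rfl)
  let e := (coproductIsCoproduct (fun _ : T => ModuleCat.of Λ Λ)).coconePointUniqueUpToIso hc
  have he : e.hom = Limits.Sigma.desc x := by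
    apply Limits.Sigma.hom_ext
    intro t
    rw [Limits.Sigma.ι_desc]
    exact IsColimit.comp_coconePointUniqueUpToIso_hom (coproductIsCoproduct (fun _ : T => ModuleCat.of Λ Λ)) hc ⟨t⟩
  rw [← he]
  infer_instance

variable {k : Type u} [Field k] [IsSepClosed k]

/-- A sheaf on `Spec k` with a basis of global sections is a direct sum of copies of the constant sheaf. -/
theorem isIso_desc (M : EtModW.Mod Λ (Spec (CommRingCat.of k))) {T : Type (u + 1)}
    (b : Module.Basis T Λ ((EtSix.gsecMod Λ (Spec (CommRingCat.of k))).obj M))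
    (x : T → (EtSix.constΛ Λ (Spec (CommRingCat.of k)) ⟶ M)) (hx : ∀ t, sec (x t) = b t) :
    IsIso (Limits.Sigma.desc x) := by
  have h0 := Groth.Agent.Sga4h.ModPoint.isEquivalence_Γ Λ k
  have h1 : (EtSix.gsecMod Λ (Spec (CommRingCat.of k))).IsEquivalence := h0
  have h2 : IsIso (EtSix.constModAdj Λ (Spec (CommRingCat.of k))).counit := inferInstance
  let y : T → (ModuleCat.of Λ Λ ⟶ (EtSix.gsecMod Λ (Spec (CommRingCat.of k))).obj M) := fun t =>
    (EtSix.constModAdj Λ (Spec (CommRingCat.of k))).homEquiv _ _ (x t)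
  have h3 : IsIso (Limits.Sigma.desc y) := isIso_desc_of_basis b y hx
  have h4 : (constantSheaf (Spec (CommRingCat.of k)).smallEtaleTopology (ModuleCat.{u + 1} Λ)).IsEquivalence :=
    Groth.Agent.Sga4h.ModPoint.isEquivalence_const Λ k
  have h5 : PreservesColimitsOfShape (Discrete T)
      (constantSheaf (Spec (CommRingCat.of k)).smallEtaleTopology (ModuleCat.{u + 1} Λ)) := inferInstance
  have h6 := isIso_sigma_desc (constantSheaf (Spec (CommRingCat.of k)).smallEtaleTopology (ModuleCat.{u + 1} Λ))
    (𝟙 _) y
  have h7 : Limits.Sigma.desc x = Limits.Sigma.desc (fun t => 𝟙 _ ≫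
      (constantSheaf (Spec (CommRingCat.of k)).smallEtaleTopology (ModuleCat.{u + 1} Λ)).map (y t)) ≫
      (EtSix.constModAdj Λ (Spec (CommRingCat.of k))).counit.app M := by
    apply Limits.Sigma.hom_ext
    intro t
    rw [Limits.Sigma.ι_desc, Limits.Sigma.ι_desc_assoc, Category.id_comp]
    have := ((EtSix.constModAdj Λ (Spec (CommRingCat.of k))).homEquiv (ModuleCat.of Λ Λ) M).symm_apply_apply (x t)
    rw [Adjunction.homEquiv_counit] at this
    exact this.symm
  rw [h7]
  infer_instance

end Groth.Agent.EtSix.H3.FieldPt
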