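import Groth.Agent.EtSix.H3.PsiIso
import Mathlib.LinearAlgebra.Basis.VectorSpace
import Mathlib.Algebra.Field.ZMod
import Mathlib.Algebra.Field.ULift

/-!
# The Künneth isomorphism in degree zero

For `X`, `Y` proper over an algebraically closed field and `Λ = ℤ/ℓ`: the products `a ⊗ c` of sections
`a : Λ_X ⟶ K` and `c : Λ_Y ⟶ L` generate the sections of `K ⊠ L`, and are independent.
-/

set_option autoImplicit false
universe u

open CategoryTheory CategoryTheory.Limits AlgebraicGeometry Opposite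

namespace Groth.Agent.EtSix.H3.H0

open Groth.Agent.Etrest.ModAb Groth.Agent.EtSix.H3.ConstPf Groth.Agent.EtSix.H3.Psi Groth.Agent.EtSix.H3.PushProd
  Groth.Agent.EtSix.H3.PushMod Groth.Agent.EtSix.H3.Sec Groth.Agent.EtSix.H3.Zigzag

section Additive

variable {Λ : Type (u + 1)} [CommRing Λ] {X Y Z : Scheme.{u}}

/-- `pf` as a homomorphism. -/
noncomputable def pfHom (f : X ⟶ Y) (M : EtModW.Mod Λ X) :
    (EtSix.constΛ Λ X ⟶ M) →+ (EtSix.constΛ Λ Y ⟶ (EtModW.push Λ f).obj M) :=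
  AddMonoidHom.mk' (pf f) (fun a b => by rw [pf, pf, pf, Functor.map_add, Preadditive.comp_add])

@[simp] lemma pfHom_apply (f : X ⟶ Y) (M : EtModW.Mod Λ X) (a : EtSix.constΛ Λ X ⟶ M) : pfHom f M a = pf f a := rfl

/-- `a ↦ a ⊗ c` as a homomorphism. -/
noncomputable def prodHom (p : Z ⟶ X) (q : Z ⟶ Y) (K : EtModW.Mod Λ X) {L : EtModW.Mod Λ Y}
    (c : EtSix.constΛ Λ Y ⟶ L) : (EtSix.constΛ Λ X ⟶ K) →+ (EtSix.constΛ Λ Z ⟶
      ((EtModD.tensorBi Λ Z).obj ((EtModW.pull Λ p).obj K)).obj ((EtModW.pull Λ q).obj L)) :=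
  AddMonoidHom.mk' (fun a => prodSec q (pb p a) c) (fun a b => by
    simp only [prodSec, pb, Functor.map_add, Preadditive.comp_add, Preadditive.add_comp])

@[simp] lemma prodHom_apply (p : Z ⟶ X) (q : Z ⟶ Y) (K : EtModW.Mod Λ X) {L : EtModW.Mod Λ Y}
    (c : EtSix.constΛ Λ Y ⟶ L) (a : EtSix.constΛ Λ X ⟶ K) : prodHom p q K c a = prodSec q (pb p a) c := rfl

end Additive

section Coproduct

variable {C : Type*} [Category C] [Preadditive C] {T : Type*} [HasCoproductsOfShape T C] {E L : C}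

/-- The morphism `E ⟶ ∐_T L` with components `ν t • c`. -/
noncomputable def comb (ν : T →₀ ℤ) (c : E ⟶ L) : E ⟶ ∐ fun _ : T => L :=
  ν.sum fun t n => n • (c ≫ Limits.Sigma.ι (fun _ : T => L) t)

open Classical in
/-- The projection `∐_T L ⟶ L`. -/
noncomputable def proj (t : T) : (∐ fun _ : T => L) ⟶ L := Limits.Sigma.desc fun t' => if t' = t then 𝟙 L else 0

lemma comb_proj (ν : T →₀ ℤ) (c : E ⟶ L) (t : T) : comb ν c ≫ proj t = ν t • c := by
  classical
  unfold comb proj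
  rw [Finsupp.sum, Preadditive.sum_comp]
  have h : ∀ t' ∈ ν.support, (ν t' • (c ≫ Limits.Sigma.ι (fun _ : T => L) t')) ≫
      Limits.Sigma.desc (fun t'' => if t'' = t then 𝟙 L else 0) = if t' = t then ν t' • c else 0 := by
    intro t' _
    rw [Preadditive.zsmul_comp, Category.assoc, Limits.Sigma.ι_desc]
    split_ifs <;> simp
  rw [Finset.sum_congr rfl h, Finset.sum_ite_eq' ν.support t (fun t' => ν t' • c)]
  split_ifs with h2
  · rfl
  · rw [Finsupp.notMem_support_iff.1 h2, zero_smul]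

end Coproduct

section Field

variable (ℓ : ℕ) [Fact ℓ.Prime]

/-- Modules over `ℤ/ℓ` are free. -/
theorem hfree (V : ModuleCat.{u + 1} (ULift.{u + 1} (ZMod ℓ))) :
    ∃ T : Type (u + 1), Nonempty (Module.Basis T (ULift.{u + 1} (ZMod ℓ)) V) :=
  ⟨_, ⟨Module.Basis.ofVectorSpace (ULift.{u + 1} (ZMod ℓ)) V⟩⟩

/-- Elements of `ℤ/ℓ` are integers. -/
theorem exists_int (r : ULift.{u + 1} (ZMod ℓ)) : ∃ n : ℤ, (n : ULift.{u + 1} (ZMod ℓ)) = r := by
  refine ⟨(r.down.val : ℤ), ULift.ext _ _ ?_⟩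
  change ((r.down.val : ℤ) : ZMod ℓ) = r.down
  simp

/-- Integral combinations of a basis. -/
theorem exists_combination {V : Type*} [AddCommGroup V] [Module (ULift.{u + 1} (ZMod ℓ)) V] {T : Type*}
    (b : Module.Basis T (ULift.{u + 1} (ZMod ℓ)) V) (v : V) : ∃ ν : T →₀ ℤ, v = ν.sum fun t n => n • b t := by
  classical
  choose c hc using exists_int.{u} ℓ
  let c' : ULift.{u + 1} (ZMod ℓ) → ℤ := fun r => if r = 0 then 0 else c r
  have hc' : ∀ r, (c' r : ULift.{u + 1} (ZMod ℓ)) = r := by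
    intro r
    by_cases hr : r = 0
    · simp [c', hr]
    · simp [c', hr, hc]
  refine ⟨(b.repr v).mapRange c' (by simp [c']), ?_⟩
  rw [Finsupp.sum_mapRange_index (by simp)]
  conv_lhs => rw [← b.linearCombination_repr v, Finsupp.linearCombination_apply]
  rw [Finsupp.sum, Finsupp.sum]
  refine Finset.sum_congr rfl fun t _ => ?_
  conv_lhs => rw [← hc' (b.repr v t)]
  rw [Int.cast_smul_eq_zsmul]

theorem cast_eq_zero : (ℓ : ULift.{u + 1} (ZMod ℓ)) = 0 := by
  ext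
  simp

variable {k : Type u} [Field k] [IsAlgClosed k] {X Y : Scheme.{u}}
  (f : X ⟶ Spec (CommRingCat.of k)) [IsProper f] (g : Y ⟶ Spec (CommRingCat.of k))
  (K : EtModW.Mod (ULift.{u + 1} (ZMod ℓ)) X)

omit [IsProper f] in
/-- A family of sections of `K` generating all sections and exhibiting `f_* K` as a direct sum of constant sheaves. -/
theorem exists_family : ∃ (T : Type (u + 1)) (s : T → (EtSix.constΛ (ULift.{u + 1} (ZMod ℓ)) X ⟶ K)),
    IsIso (Limits.Sigma.desc fun t => pf f (s t)) ∧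
    ∀ a : EtSix.constΛ (ULift.{u + 1} (ZMod ℓ)) X ⟶ K, ∃ ν : T →₀ ℤ, a = ν.sum fun t n => n • s t := by
  obtain ⟨T, ⟨b⟩⟩ := hfree ℓ
    ((EtSix.gsecMod (ULift.{u + 1} (ZMod ℓ)) (Spec (CommRingCat.of k))).obj ((EtModW.push _ f).obj K))
  choose x hx using fun t => exists_sec (M := (EtModW.push (ULift.{u + 1} (ZMod ℓ)) f).obj K) (b t)
  choose s hs using fun t => pf_surjective (Λ := ULift.{u + 1} (ZMod ℓ)) f (M := K) (x t)
  refine ⟨T, s, ?_, ?_⟩
  · have h1 := FieldPt.isIso_desc ((EtModW.push (ULift.{u + 1} (ZMod ℓ)) f).obj K) b x hx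
    have h2 : (fun t => pf f (s t)) = x := funext hs
    rw [h2]
    exact h1
  · intro a
    obtain ⟨ν, hν⟩ := exists_combination ℓ b (sec (pf f a))
    refine ⟨ν, pf_injective f (sec_injective ?_)⟩
    change _ = secHom _ _ (pfHom f K _)
    rw [Finsupp.sum, map_sum, map_sum, hν, Finsupp.sum]
    refine Finset.sum_congr rfl fun t _ => ?_
    rw [map_zsmul, map_zsmul, pfHom_apply, hs]
    exact congrArg (ν t • ·) (hx t).symm

variable {K} {L : EtModW.Mod (ULift.{u + 1} (ZMod ℓ)) Y}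

omit [Fact ℓ.Prime] in
theorem pf_prodHom {Z : Scheme.{u}} (p : Z ⟶ X) (q : Z ⟶ Y) {T : Type (u + 1)}
    (s : T → (EtSix.constΛ (ULift.{u + 1} (ZMod ℓ)) X ⟶ K)) (ν : T →₀ ℤ)
    (c : EtSix.constΛ (ULift.{u + 1} (ZMod ℓ)) Y ⟶ L) :
    pf q (prodSec q (pb p (ν.sum fun t n => n • s t)) c) =
      comb ν c ≫ Limits.Sigma.desc (fun t => psi q (pb p (s t)) L) := by
  have h1 : pf q (prodSec q (pb p (ν.sum fun t n => n • s t)) c) =
      pfHom q _ (prodHom p q K c (ν.sum fun t n => n • s t)) := rfl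
  rw [h1, Finsupp.sum, map_sum, map_sum]
  unfold comb
  rw [Finsupp.sum, Preadditive.sum_comp]
  refine Finset.sum_congr rfl fun t _ => ?_
  rw [map_zsmul, map_zsmul, Preadditive.zsmul_comp, Category.assoc, pfHom_apply, prodHom_apply, ← comp_psi,
    Limits.Sigma.ι_desc]

theorem smul_eq_zero' {W : Scheme.{u}} {M N : EtModW.Mod (ULift.{u + 1} (ZMod ℓ)) W} (φ : M ⟶ N) (n : ℤ)
    (hn : (ℓ : ℤ) ∣ n) : n • φ = 0 := by
  obtain ⟨m, rfl⟩ := hn
  have h : (ℓ : ℤ) • φ = 0 := by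
    ext V x
    have h1 : ∀ y : N.obj.obj V, (ℓ : ℤ) • y = 0 := fun y => by
      have : (((ℓ : ℤ) : ULift.{u + 1} (ZMod ℓ))) • y = (ℓ : ℤ) • y := Int.cast_smul_eq_zsmul _ _ _
      rw [← this, Int.cast_natCast, cast_eq_zero, zero_smul]
    have h2 := (sheafToPresheaf W.smallEtaleTopology (ModuleCat.{u + 1} (ULift.{u + 1} (ZMod ℓ))) ⋙
      (evaluation _ _).obj V).map_zsmul (f := φ) (r := (ℓ : ℤ))
    have h3 : (((ℓ : ℤ) • φ : M ⟶ N).hom.app V).hom x = (ℓ : ℤ) • ((φ.hom.app V).hom x) := by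
      have h4 : ((ℓ : ℤ) • φ : M ⟶ N).hom.app V = (ℓ : ℤ) • φ.hom.app V := h2
      rw [h4]
      rfl
    refine h3.trans ?_
    rw [h1]
    rfl
  rw [mul_comm, mul_smul, h, smul_zero]

variable [IsProper g] (L)

variable (K) in
/-- The main isomorphism, in components. -/
theorem isIso_desc_psi {T : Type (u + 1)} (s : T → (EtSix.constΛ (ULift.{u + 1} (ZMod ℓ)) X ⟶ K))
    (hs : IsIso (Limits.Sigma.desc fun t => pf f (s t))) :
    IsIso (Limits.Sigma.desc (fun t => psi (pullback.snd f g) (pb (pullback.fst f g) (s t)) L)) :=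
  PsiIso.isIso_Psi f g (Fact.out : ℓ.Prime).pos (cast_eq_zero.{u} ℓ) (hfree ℓ) K s hs L

variable (K) in
/-- `(pr₂)_* (K ⊠ L)` is a direct sum of copies of `L`. -/
theorem exists_push_boxtimes : ∃ T : Type (u + 1),
    Nonempty ((EtModW.push (ULift.{u + 1} (ZMod ℓ)) (pullback.snd f g)).obj (EtSix.boxtimes _ f g K L) ≅
      ∐ fun _ : T => L) := by
  obtain ⟨T, s, hs, -⟩ := exists_family ℓ f K
  exact ⟨T, ⟨(@asIso _ _ _ _ _ (isIso_desc_psi ℓ f (g := g) K L s hs)).symm⟩⟩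

/-- The Künneth isomorphism in degree zero: independence. -/
theorem inj (m : ℕ) (c : Fin m → (EtSix.constΛ (ULift.{u + 1} (ZMod ℓ)) Y ⟶ L))
    (hc : ∀ n : Fin m → ℤ, ∑ j, n j • c j = 0 → ∀ j, (ℓ : ℤ) ∣ n j)
    (a : Fin m → (EtSix.constΛ (ULift.{u + 1} (ZMod ℓ)) X ⟶ K))
    (h : ∑ j, prodSec (pullback.snd f g) (pb (pullback.fst f g) (a j)) (c j) = 0) (j : Fin m) : a j = 0 := by
  obtain ⟨T, s, hs, hgen⟩ := exists_family ℓ f K
  choose ν hν using fun j => hgen (a j)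
  have hΨ := isIso_desc_psi ℓ f (g := g) K L s hs
  have h1 : ∑ j, comb (ν j) (c j) = 0 := by
    refine (@cancel_mono _ _ _ _ _ _ (@IsIso.mono_of_iso _ _ _ _ _ hΨ) _ _).1 ?_
    rw [Preadditive.sum_comp, zero_comp, ← map_zero (pfHom (pullback.snd f g) _), ← h, map_sum]
    refine Finset.sum_congr rfl fun j _ => ?_
    rw [pfHom_apply, hν j]
    exact (pf_prodHom ℓ (pullback.fst f g) (pullback.snd f g) s (ν j) (c j)).symm
  have h2 : ∀ t, (ℓ : ℤ) ∣ ν j t := by
    intro t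
    refine hc (fun j => ν j t) ?_ j
    have h3 := congrArg (· ≫ proj t) h1
    simp only [Preadditive.sum_comp, zero_comp, comb_proj] at h3
    exact h3
  rw [hν j]
  exact Finset.sum_eq_zero fun t _ => smul_eq_zero' ℓ _ _ (h2 t)

/-- The Künneth isomorphism in degree zero: generation. -/
theorem surj (z : EtSix.constΛ (ULift.{u + 1} (ZMod ℓ)) (pullback f g) ⟶ EtSix.boxtimes _ f g K L) :
    ∃ (m : ℕ) (a : Fin m → (EtSix.constΛ (ULift.{u + 1} (ZMod ℓ)) X ⟶ K))
      (c : Fin m → (EtSix.constΛ (ULift.{u + 1} (ZMod ℓ)) Y ⟶ L)),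
      z = ∑ j, prodSec (pullback.snd f g) (pb (pullback.fst f g) (a j)) (c j) := by
  obtain ⟨T, s, hs, -⟩ := exists_family ℓ f K
  have hΨ := isIso_desc_psi ℓ f (g := g) K L s hs
  have hY1 : CompactSpace Y := QuasiCompact.compactSpace_of_compactSpace g
  have hY2 : QuasiSeparatedSpace Y := quasiSeparatedSpace_of_quasiSeparated g
  let e := @asIso _ _ _ _ _ hΨ
  obtain ⟨I, c, hc⟩ := exists_finset_sum (fun _ : T => L) (pf (pullback.snd f g) z ≫ e.inv)
  refine ⟨I.card, fun j => s (I.equivFin.symm j).1.as, fun j => c (I.equivFin.symm j), ?_⟩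
  rw [Equiv.sum_comp I.equivFin.symm (fun i : I => prodSec (pullback.snd f g)
    (pb (pullback.fst f g) (s i.1.as)) (c i))]
  apply pf_injective (pullback.snd f g)
  change _ = pfHom (pullback.snd f g) _ _
  rw [map_sum]
  have h1 : pf (pullback.snd f g) z = (∑ i : I, c i ≫ Limits.Sigma.ι (fun _ : T => L) i.1.as) ≫ e.hom := by
    rw [← hc, Category.assoc, e.inv_hom_id, Category.comp_id]
  rw [h1, Preadditive.sum_comp]
  refine Finset.sum_congr rfl fun i _ => ?_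
  rw [pfHom_apply, ← comp_psi, Category.assoc]
  congr 1
  exact Limits.Sigma.ι_desc _ _

end Field

end Groth.Agent.EtSix.H3.H0
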