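import Groth.Agent.EtSix.H3.H0Gen

/-!
# The Künneth isomorphism in degree zero, in terms of `AbsCross.crT` (general coefficient ring)
-/

set_option autoImplicit false
universe w v u

open CategoryTheory CategoryTheory.Limits AlgebraicGeometry Opposite CategoryTheory.Abelian TensorProduct

namespace Groth.Agent.EtSix.H3.H0CrGen

open Groth.Agent.Etsix.H994 Groth.Agent.Etsix.H994.AbsCross

section Abstract

variable {C₁ C₂ D : Type u} [Category.{v} C₁] [Category.{v} C₂] [Category.{v} D] [Abelian C₁] [Abelian C₂]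
  [Abelian D] [HasExt.{w} C₁] [HasExt.{w} C₂] [HasExt.{w} D]
  (p : C₁ ⥤ D) [p.Additive] [PreservesFiniteLimits p] [PreservesFiniteColimits p]
  (q : C₂ ⥤ D) [q.Additive] [PreservesFiniteLimits q] [PreservesFiniteColimits q] {o₁ : C₁} {o₂ : C₂} {o : D}
  (e₁ : o ⟶ p.obj o₁) (e₂ : o ⟶ q.obj o₂) (K : C₁) (F : D ⥤ D) [F.Additive] [PreservesFiniteLimits F]
  [PreservesFiniteColimits F] (η : p.obj K ⟶ F.obj o) (L : C₂)

theorem cr_mk₀_mk₀ (a : o₁ ⟶ K) (c : o₂ ⟶ L) :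
    cr.{w} p q e₁ e₂ K F η L 0 0 (add_zero 0) (Ext.mk₀ a) (Ext.mk₀ c) =
      Ext.mk₀ ((e₁ ≫ p.map a) ≫ η ≫ F.map (e₂ ≫ q.map c)) := by
  rw [cr_apply, hPull_mk₀, hPull_mk₀, cupR_mk₀, Ext.mk₀_comp_mk₀]

theorem mk₀_sum {C : Type u} [Category.{v} C] [Abelian C] [HasExt.{w} C] {X Y : C} {ι : Type*} (s : Finset ι)
    (x : ι → (X ⟶ Y)) : Ext.mk₀ (∑ j ∈ s, x j) = ∑ j ∈ s, (Ext.mk₀ (x j) : Ext.{w} X Y 0) :=
  map_sum (Ext.addEquiv₀ (X := X) (Y := Y)).symm x s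

theorem mk₀_zsmul {C : Type u} [Category.{v} C] [Abelian C] [HasExt.{w} C] {X Y : C} (n : ℤ)
    (x : X ⟶ Y) : Ext.mk₀ (n • x) = n • (Ext.mk₀ x : Ext.{w} X Y 0) :=
  map_zsmul (Ext.addEquiv₀ (X := X) (Y := Y)).symm n x

/-- Bijectivity of the cross product in degree zero in terms of morphisms. -/
theorem crT_bijective (ℓ : ℕ) [Fact ℓ.Prime] (hℓ : ∀ c : o₂ ⟶ L, (ℓ : ℤ) • c = 0)
    (inj : ∀ (m : ℕ) (c : Fin m → (o₂ ⟶ L)) (_ : ∀ n : Fin m → ℤ, ∑ j, n j • c j = 0 → ∀ j, (ℓ : ℤ) ∣ n j)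
      (a : Fin m → (o₁ ⟶ K)), ∑ j, (e₁ ≫ p.map (a j)) ≫ η ≫ F.map (e₂ ≫ q.map (c j)) = 0 → ∀ j, a j = 0)
    (surj : ∀ z : o ⟶ F.obj (q.obj L), ∃ (m : ℕ) (a : Fin m → (o₁ ⟶ K)) (c : Fin m → (o₂ ⟶ L)),
      z = ∑ j, (e₁ ≫ p.map (a j)) ≫ η ≫ F.map (e₂ ≫ q.map (c j))) :
    Function.Bijective (crT.{w} p q e₁ e₂ K F η L 0 0 (add_zero 0)) := by
  change Function.Bijective (TensorBasis.liftHom (cr.{w} p q e₁ e₂ K F η L 0 0 (add_zero 0)))
  refine TensorBasis.bijective_liftHom ℓ ?_ _ ?_ ?_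
  · intro b
    obtain ⟨c, rfl⟩ := (Ext.mk₀_bijective o₂ L).2 b
    rw [← natCast_zsmul, ← mk₀_zsmul, hℓ, Ext.mk₀_zero]
  · intro m b hb a h
    choose c hc using fun j => (Ext.mk₀_bijective o₂ L).2 (b j)
    choose a' ha' using fun j => (Ext.mk₀_bijective o₁ K).2 (a j)
    have hb' : b = fun j => Ext.mk₀ (c j) := funext fun j => (hc j).symm
    have haa : a = fun j => Ext.mk₀ (a' j) := funext fun j => (ha' j).symm
    subst hb' haa
    intro j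
    have h1 := inj m c (fun n hn => hb n (by
      simp only [← mk₀_zsmul, ← mk₀_sum]
      rw [hn, Ext.mk₀_zero])) a' ?_ j
    · change Ext.mk₀ (a' j) = 0
      rw [h1, Ext.mk₀_zero]
    · apply (Ext.mk₀_bijective _ _).1
      rw [mk₀_sum, Ext.mk₀_zero, ← h]
      exact Finset.sum_congr rfl fun j _ => (cr_mk₀_mk₀ p q e₁ e₂ K F η L (a' j) (c j)).symm
  · intro z
    obtain ⟨z', rfl⟩ := (Ext.mk₀_bijective o (F.obj (q.obj L))).2 z
    obtain ⟨m, a, c, hz⟩ := surj z'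
    refine ⟨m, fun j => Ext.mk₀ (a j), fun j => Ext.mk₀ (c j), ?_⟩
    rw [hz, mk₀_sum]
    exact Finset.sum_congr rfl fun j _ => (cr_mk₀_mk₀ p q e₁ e₂ K F η L (a j) (c j)).symm

end Abstract

section Etale

open CrossFun

attribute [local instance 10000] Groth.Agent.Etsix.H994.ExtInst.hasExt_mod

variable (Λ : Type (u + 1)) [CommRing Λ] (ℓ : ℕ) [Fact ℓ.Prime] {k : Type u} [Field k] [IsAlgClosed k]
  {X Y : Scheme.{u}}
  (f : X ⟶ Spec (CommRingCat.of k)) [IsProper f] (g : Y ⟶ Spec (CommRingCat.of k)) [IsProper g]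
  [hPL : ∀ F : EtModW.Mod Λ (pullback f g), PreservesFiniteLimits ((EtModD.tensorBi Λ (pullback f g)).obj F)]

/-- The hypothesis `h0` of `Assemble.main`. -/
theorem h0 (hΛ : (ℓ : Λ) = 0) (hint : ∀ r : Λ, ∃ n : ℤ, (n : Λ) = r)
    (hfree : ∀ V : ModuleCat.{u + 1} Λ, ∃ T : Type (u + 1), Nonempty (Module.Basis T Λ V))
    (I : EtModW.Mod Λ X) (J : EtModW.Mod Λ Y) :
    Function.Bijective (AbsCross.crT (EtModW.pull Λ (pullback.fst f g))
        (EtModW.pull Λ (pullback.snd f g))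
        (EtSix.pullConstΛ Λ (pullback.fst f g)).inv
        (EtSix.pullConstΛ Λ (pullback.snd f g)).inv I
        ((EtModD.tensorBi Λ (pullback f g)).obj
          ((EtModW.pull Λ (pullback.fst f g)).obj I)) (EtSix.unitMap _) J 0 0 (add_zero 0)) :=
  crT_bijective _ _ _ _ I _ _ J ℓ (fun c => H0Gen.smul_eq_zero' hΛ c ℓ (dvd_refl _))
    (fun m c hc a h => H0Gen.inj f g (K := I) (L := J) (Fact.out : ℓ.Prime).pos hΛ hint hfree m c hc a h)
    (fun z => H0Gen.surj f g (K := I) (L := J) (Fact.out : ℓ.Prime).pos hΛ hint hfree z)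

end Etale

end Groth.Agent.EtSix.H3.H0CrGen
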