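import Groth.Agent.EtSix.H3.H0
import Groth.Agent.Etsix.H994.ExtInst
import Groth.Agent.Etsix.H994.AbsCross
import Groth.Agent.Etsix.H994.CrossFun
import Groth.Agent.Etsix.H994.TensorBasis

/-!
# The Künneth isomorphism in degree zero, for a general coefficient ring

The coefficient ring `Λ` satisfies: `(ℓ : Λ) = 0`, every element is an integer, every module is free (that is,
`Λ = ℤ/ℓ`). The general form keeps type checking fast.
-/

set_option autoImplicit false
universe w v u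

open CategoryTheory CategoryTheory.Limits AlgebraicGeometry Opposite CategoryTheory.Abelian TensorProduct

attribute [local instance 10000] Groth.Agent.Etsix.H994.ExtInst.hasExt_mod

namespace Groth.Agent.EtSix.H3.H0Gen

open Groth.Agent.Etrest.ModAb Groth.Agent.EtSix.H3.ConstPf Groth.Agent.EtSix.H3.Psi Groth.Agent.EtSix.H3.PushProd
  Groth.Agent.EtSix.H3.PushMod Groth.Agent.EtSix.H3.Sec Groth.Agent.EtSix.H3.Zigzag

section Field

variable {Λ : Type (u + 1)} [CommRing Λ]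

/-- Integral combinations of a basis. -/
theorem exists_combination (hint : ∀ r : Λ, ∃ n : ℤ, (n : Λ) = r) {V : Type*} [AddCommGroup V] [Module Λ V]
    {T : Type*} (b : Module.Basis T Λ V) (v : V) : ∃ ν : T →₀ ℤ, v = ν.sum fun t n => n • b t := by
  classical
  choose c hc using hint
  let c' : Λ → ℤ := fun r => if r = 0 then 0 else c r
  have hc' : ∀ r, (c' r : Λ) = r := by
    intro r
    by_cases hr : r = 0
    · simp [c', hr]
    · simp [c', hr, hc]
  refine ⟨(b.repr v).mapRange c' (by simp [c']), ?_⟩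
  rw [Finsupp.sum_mapRange_index (by simp)]
  conv_lhs => rw [← b.linearCombination_repr v, Finsupp.linearCombination_apply]
  rw [Finsupp.sum, Finsupp.sum]
  refine Finset.sum_congr rfl fun t _ => ?_
  conv_lhs => rw [← hc' (b.repr v t)]
  rw [Int.cast_smul_eq_zsmul]

theorem smul_eq_zero' {ℓ : ℕ} (hΛ : (ℓ : Λ) = 0) {W : Scheme.{u}} {M N : EtModW.Mod Λ W} (φ : M ⟶ N) (n : ℤ)
    (hn : (ℓ : ℤ) ∣ n) : n • φ = 0 := by
  obtain ⟨m, rfl⟩ := hn
  have h : (ℓ : ℤ) • φ = 0 := by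
    ext V x
    have h1 : ∀ y : N.obj.obj V, (ℓ : ℤ) • y = 0 := fun y => by
      have : (((ℓ : ℤ) : Λ)) • y = (ℓ : ℤ) • y := Int.cast_smul_eq_zsmul _ _ _
      rw [← this, Int.cast_natCast, hΛ, zero_smul]
    have h2 := (sheafToPresheaf W.smallEtaleTopology (ModuleCat.{u + 1} Λ) ⋙
      (evaluation _ _).obj V).map_zsmul (f := φ) (r := (ℓ : ℤ))
    have h3 : (((ℓ : ℤ) • φ : M ⟶ N).hom.app V).hom x = (ℓ : ℤ) • ((φ.hom.app V).hom x) := by
      have h4 : ((ℓ : ℤ) • φ : M ⟶ N).hom.app V = (ℓ : ℤ) • φ.hom.app V := h2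
      rw [h4]
      rfl
    refine h3.trans ?_
    rw [h1]
    rfl
  rw [mul_comm, mul_smul, h, smul_zero]

variable {k : Type u} [Field k] [IsAlgClosed k] {X Y : Scheme.{u}}
  (f : X ⟶ Spec (CommRingCat.of k)) (g : Y ⟶ Spec (CommRingCat.of k))
  (K : EtModW.Mod Λ X)

/-- A family of sections of `K` generating all sections and exhibiting `f_* K` as a direct sum of constant sheaves. -/
theorem exists_family (hint : ∀ r : Λ, ∃ n : ℤ, (n : Λ) = r)
    (hfree : ∀ V : ModuleCat.{u + 1} Λ, ∃ T : Type (u + 1), Nonempty (Module.Basis T Λ V)) :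
    ∃ (T : Type (u + 1)) (s : T → (EtSix.constΛ Λ X ⟶ K)),
    IsIso (Limits.Sigma.desc fun t => pf f (s t)) ∧
    ∀ a : EtSix.constΛ Λ X ⟶ K, ∃ ν : T →₀ ℤ, a = ν.sum fun t n => n • s t := by
  obtain ⟨T, ⟨b⟩⟩ := hfree
    ((EtSix.gsecMod Λ (Spec (CommRingCat.of k))).obj ((EtModW.push _ f).obj K))
  choose x hx using fun t => exists_sec (M := (EtModW.push Λ f).obj K) (b t)
  choose s hs using fun t => pf_surjective (Λ := Λ) f (M := K) (x t)
  refine ⟨T, s, ?_, ?_⟩
  · have h1 := FieldPt.isIso_desc ((EtModW.push Λ f).obj K) b x hx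
    have h2 : (fun t => pf f (s t)) = x := funext hs
    rw [h2]
    exact h1
  · intro a
    obtain ⟨ν, hν⟩ := exists_combination hint b (sec (pf f a))
    refine ⟨ν, pf_injective f (sec_injective ?_)⟩
    change _ = secHom _ _ (H0.pfHom f K _)
    rw [Finsupp.sum, map_sum, map_sum, hν, Finsupp.sum]
    refine Finset.sum_congr rfl fun t _ => ?_
    rw [map_zsmul, map_zsmul, H0.pfHom_apply, hs]
    exact congrArg (ν t • ·) (hx t).symm

variable {K} {L : EtModW.Mod Λ Y}

omit [IsAlgClosed k] in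
theorem pf_prodHom {Z : Scheme.{u}} (p : Z ⟶ X) (q : Z ⟶ Y) {T : Type (u + 1)}
    (s : T → (EtSix.constΛ Λ X ⟶ K)) (ν : T →₀ ℤ) (c : EtSix.constΛ Λ Y ⟶ L) :
    pf q (prodSec q (pb p (ν.sum fun t n => n • s t)) c) =
      H0.comb ν c ≫ Limits.Sigma.desc (fun t => psi q (pb p (s t)) L) := by
  have h1 : pf q (prodSec q (pb p (ν.sum fun t n => n • s t)) c) =
      H0.pfHom q _ (H0.prodHom p q K c (ν.sum fun t n => n • s t)) := rfl
  rw [h1, Finsupp.sum, map_sum, map_sum]
  unfold H0.comb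
  rw [Finsupp.sum, Preadditive.sum_comp]
  refine Finset.sum_congr rfl fun t _ => ?_
  rw [map_zsmul, map_zsmul, Preadditive.zsmul_comp, Category.assoc, H0.pfHom_apply, H0.prodHom_apply, ← comp_psi,
    Limits.Sigma.ι_desc]

variable [IsProper f] [IsProper g] {ℓ : ℕ} (hℓ : 0 < ℓ) (hΛ : (ℓ : Λ) = 0)
  (hint : ∀ r : Λ, ∃ n : ℤ, (n : Λ) = r)
  (hfree : ∀ V : ModuleCat.{u + 1} Λ, ∃ T : Type (u + 1), Nonempty (Module.Basis T Λ V))
include hℓ hΛ hint hfree

variable (K L) in
/-- `(pr₂)_* (K ⊠ L)` is a direct sum of copies of `L`. -/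
theorem exists_push_boxtimes : ∃ T : Type (u + 1),
    Nonempty ((EtModW.push Λ (pullback.snd f g)).obj (EtSix.boxtimes _ f g K L) ≅ ∐ fun _ : T => L) := by
  obtain ⟨T, s, hs, -⟩ := exists_family f K hint hfree
  have hΨ : IsIso (Limits.Sigma.desc (fun t => psi (pullback.snd f g) (pb (pullback.fst f g) (s t)) L)) :=
    PsiIso.isIso_Psi f g hℓ hΛ hfree K s hs L
  exact ⟨T, ⟨(@asIso _ _ _ _ _ hΨ).symm⟩⟩

/-- The Künneth isomorphism in degree zero: independence. -/
theorem inj (m : ℕ) (c : Fin m → (EtSix.constΛ Λ Y ⟶ L))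
    (hc : ∀ n : Fin m → ℤ, ∑ j, n j • c j = 0 → ∀ j, (ℓ : ℤ) ∣ n j)
    (a : Fin m → (EtSix.constΛ Λ X ⟶ K))
    (h : ∑ j, prodSec (pullback.snd f g) (pb (pullback.fst f g) (a j)) (c j) = 0) (j : Fin m) : a j = 0 := by
  obtain ⟨T, s, hs, hgen⟩ := exists_family f K hint hfree
  choose ν hν using fun j => hgen (a j)
  have hΨ : IsIso (Limits.Sigma.desc (fun t => psi (pullback.snd f g) (pb (pullback.fst f g) (s t)) L)) :=
    PsiIso.isIso_Psi f g hℓ hΛ hfree K s hs L
  have h1 : ∑ j, H0.comb (ν j) (c j) = 0 := by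
    refine (@cancel_mono _ _ _ _ _ _ (@IsIso.mono_of_iso _ _ _ _ _ hΨ) _ _).1 ?_
    rw [Preadditive.sum_comp, zero_comp, ← map_zero (H0.pfHom (pullback.snd f g) _), ← h, map_sum]
    refine Finset.sum_congr rfl fun j _ => ?_
    rw [H0.pfHom_apply, hν j]
    exact (pf_prodHom (pullback.fst f g) (pullback.snd f g) s (ν j) (c j)).symm
  have h2 : ∀ t, (ℓ : ℤ) ∣ ν j t := by
    intro t
    refine hc (fun j => ν j t) ?_ j
    have h3 := congrArg (· ≫ H0.proj t) h1
    simp only [Preadditive.sum_comp, zero_comp, H0.comb_proj] at h3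
    exact h3
  rw [hν j]
  exact Finset.sum_eq_zero fun t _ => smul_eq_zero' hΛ _ _ (h2 t)

/-- The Künneth isomorphism in degree zero: generation. -/
theorem surj (z : EtSix.constΛ Λ (pullback f g) ⟶ EtSix.boxtimes _ f g K L) :
    ∃ (m : ℕ) (a : Fin m → (EtSix.constΛ Λ X ⟶ K)) (c : Fin m → (EtSix.constΛ Λ Y ⟶ L)),
      z = ∑ j, prodSec (pullback.snd f g) (pb (pullback.fst f g) (a j)) (c j) := by
  obtain ⟨T, s, hs, -⟩ := exists_family f K hint hfree
  have hΨ : IsIso (Limits.Sigma.desc (fun t => psi (pullback.snd f g) (pb (pullback.fst f g) (s t)) L)) :=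
    PsiIso.isIso_Psi f g hℓ hΛ hfree K s hs L
  have hY1 : CompactSpace Y := QuasiCompact.compactSpace_of_compactSpace g
  have hY2 : QuasiSeparatedSpace Y := quasiSeparatedSpace_of_quasiSeparated g
  let e := @asIso _ _ _ _ _ hΨ
  obtain ⟨I, c, hc⟩ := exists_finset_sum (fun _ : T => L) (pf (pullback.snd f g) z ≫ e.inv)
  refine ⟨I.card, fun j => s (I.equivFin.symm j).1.as, fun j => c (I.equivFin.symm j), ?_⟩
  rw [Equiv.sum_comp I.equivFin.symm (fun i : I => prodSec (pullback.snd f g)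
    (pb (pullback.fst f g) (s i.1.as)) (c i))]
  apply pf_injective (pullback.snd f g)
  change _ = H0.pfHom (pullback.snd f g) _ _
  rw [map_sum]
  have h1 : pf (pullback.snd f g) z = (∑ i : I, c i ≫ Limits.Sigma.ι (fun _ : T => L) i.1.as) ≫ e.hom := by
    rw [← hc, Category.assoc, e.inv_hom_id, Category.comp_id]
  rw [h1, Preadditive.sum_comp]
  refine Finset.sum_congr rfl fun i _ => ?_
  rw [H0.pfHom_apply, ← comp_psi, Category.assoc]
  congr 1
  exact Limits.Sigma.ι_desc _ _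

end Field

end Groth.Agent.EtSix.H3.H0Gen
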