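import Groth.Agent.Etrest.ModAb

/-!
# The comparison `ab ∘ f^* ≅ f^* ∘ ab` is compatible with the units of the adjunctions

`unit_pullIso`: `ab F ⟶ f_* f^* ab F` is `ab (F ⟶ f_* f^* F)` followed by `pushIso` and `pullIso`.
-/

set_option autoImplicit false
universe u v₁ v₂ v₃ v₄ u₁ u₂ u₃ u₄

open CategoryTheory CategoryTheory.Limits AlgebraicGeometry Opposite

namespace Groth.Agent.EtSix.H3.PullUnit

section Abstract

variable {A : Type u₁} [Category.{v₁} A] {A' : Type u₂} [Category.{v₂} A']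
  {B : Type u₃} [Category.{v₃} B] {B' : Type u₄} [Category.{v₄} B']
  {U : A ⥤ B} {R : B ⥤ A} (aU : U ⊣ R) {U' : A' ⥤ B'} {R' : B' ⥤ A'} (aU' : U' ⊣ R')
  {L : A ⥤ A'} {P : A' ⥤ A} (adj : L ⊣ P) {L₀ : B ⥤ B'} {P₀ : B' ⥤ B} (adj₀ : L₀ ⊣ P₀)
  (κ : P ⋙ U ≅ U' ⋙ P₀) (ρ : R' ⋙ P ≅ P₀ ⋙ R)

/-- Abstract form of `unit_pullIso`. -/
theorem unit_abs
    (tri : ∀ M : A', U.map (P.map (aU'.unit.app M)) ≫ U.map (ρ.hom.app (U'.obj M)) ≫
      aU.counit.app (P₀.obj (U'.obj M)) = κ.hom.app M) (F : A) :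
    adj₀.unit.app (U.obj F) = U.map (adj.unit.app F) ≫ κ.hom.app (L.obj F) ≫
      P₀.map ((((adj.comp aU').ofNatIsoRight ρ).leftAdjointUniq (aU.comp adj₀)).hom.app F) := by
  have h := Adjunction.unit_leftAdjointUniq_hom_app
    ((adj.comp aU').ofNatIsoRight ρ) (aU.comp adj₀) F
  generalize (((adj.comp aU').ofNatIsoRight ρ).leftAdjointUniq (aU.comp adj₀)).hom.app F = π at h ⊢
  have h0 : ((adj.comp aU').ofNatIsoRight ρ).unit.app F =
      adj.unit.app F ≫ P.map (aU'.unit.app (L.obj F)) ≫ ρ.hom.app (U'.obj (L.obj F)) := by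
    simp
  rw [h0, Adjunction.comp_unit_app] at h
  have h1 := congrArg (fun φ => U.map φ ≫ aU.counit.app _) h
  simp only [Functor.comp_map, Functor.map_comp, Category.assoc] at h1
  have h2 := aU.counit.naturality (P₀.map π)
  simp only [Functor.comp_map, Functor.id_map] at h2
  have h3 := aU.counit.naturality (adj₀.unit.app (U.obj F))
  simp only [Functor.comp_map, Functor.id_map] at h3
  erw [h2, h3] at h1
  have h4 : U.map (aU.unit.app F) ≫ aU.counit.app ((𝟭 B).obj (U.obj F)) = 𝟙 (U.obj F) :=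
    aU.left_triangle_components F
  have h5 : U.map (aU.unit.app F) ≫ aU.counit.app ((𝟭 B).obj (U.obj F)) ≫ adj₀.unit.app (U.obj F) =
      adj₀.unit.app (U.obj F) :=
    ((Category.assoc _ _ _).symm.trans (congrArg (· ≫ adj₀.unit.app (U.obj F)) h4)).trans
      (Category.id_comp _)
  refine (h1.trans h5).symm.trans ?_
  have h6 := tri (L.obj F)
  rw [← h6]
  simp only [Category.assoc]
  rfl

end Abstract

open Groth.Agent.Etrest.ModAb

variable {Λ : Type (u + 1)} [CommRing Λ] {X Y : Scheme.{u}} (f : X ⟶ Y)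

/-- The composite `ab (f_* M) ⟶ ab (f_* (coind (ab M))) = ab (coind (f_* (ab M))) ⟶ f_* (ab M)` is the
identification `pushIso`. -/
theorem triangle (M : EtModW.Mod Λ X) :
    (ab Λ Y).map ((EtModW.push Λ f).map ((coindShAdj Λ X).unit.app M)) ≫
      (ab Λ Y).map ((pushCoindIso Λ f).hom.app ((ab Λ X).obj M)) ≫
        (coindShAdj Λ Y).counit.app ((EtCoh.push f).obj ((ab Λ X).obj M)) =
      (pushIso Λ f).hom.app M := by
  apply Sheaf.hom_ext
  ext U m
  let m' : EtModW.sect Λ M ((EtCoh.bc f).obj U.unop) := m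
  exact one_smul Λ m'

/-- Compatibility of `pullIso` with the units. -/
theorem unit_pullIso (F : EtModW.Mod Λ Y) :
    (EtCoh.pullPushAdj f).unit.app ((ab Λ Y).obj F) =
      (ab Λ Y).map ((pullPushAdj Λ f).unit.app F) ≫ (pushIso Λ f).hom.app ((EtModW.pull Λ f).obj F) ≫
        (EtCoh.push f).map ((pullIso Λ f).hom.app F) :=
  unit_abs (coindShAdj Λ Y) (coindShAdj Λ X) (pullPushAdj Λ f) (EtCoh.pullPushAdj f)
    (pushIso Λ f) (pushCoindIso Λ f) (triangle f) F

end Groth.Agent.EtSix.H3.PullUnit
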