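import Groth.Agent.EtSix.H3.SqM
import Groth.Agent.EtSix.H3.PullUnit
import Groth.Agent.EtSix.H3.BCTransfer
import Groth.Agent.S0001

/-!
# Degree zero proper base change for sheaves of `Λ`-modules

* `isIso_baseChange0Mod_iff`: `EtSix.baseChange0Mod` is an isomorphism iff `EtCoh.baseChange0` of the underlying abelian
  sheaf is one;
* `isIso_baseChange0Mod`: proper base change.
-/

set_option autoImplicit false
universe u

open CategoryTheory CategoryTheory.Limits AlgebraicGeometry Opposite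

namespace Groth.Agent.EtSix.H3.ModBC

open Groth.Agent.Etrest.ModAb Groth.Agent.EtpbcB Groth.Agent.EtSix.H3.SqM

variable {Λ : Type (u + 1)} [CommRing Λ] {X Y X' Y' : Scheme.{u}}
  {f : X ⟶ Y} {g : Y' ⟶ Y} {f' : X' ⟶ Y'} {g' : X' ⟶ X}

lemma sq_compat (w : g' ≫ f = f' ≫ g) (M : EtModW.Mod Λ X') :
    (ab Λ Y).map ((sqM Λ w).hom.app M) ≫ (pushIso Λ g).hom.app ((EtModW.push Λ f').obj M) ≫
        (EtCoh.push g).map ((pushIso Λ f').hom.app M) =
      (pushIso Λ f).hom.app ((EtModW.push Λ g').obj M) ≫ (EtCoh.push f).map ((pushIso Λ g').hom.app M) ≫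
        (BCCalc.sq w).hom.app ((ab Λ X').obj M) := by
  apply BCCalc.ab_hom_ext
  intro U
  have h1 := sqM_hom_app_app w M U
  have h2 := BCCalc.sq_hom_app_app w ((ab Λ X').obj M) U
  have h3 : ((ab Λ Y).map ((sqM Λ w).hom.app M)).hom.app (op U) =
      (fg Λ).map (M.obj.map (BCCalc.theta w U).hom.op) := by
    rw [← h1]
    rfl
  have h4 : ((BCCalc.sq w).hom.app ((ab Λ X').obj M)).hom.app (op U) =
      (fg Λ).map (M.obj.map (BCCalc.theta w U).hom.op) := h2
  change ((ab Λ Y).map ((sqM Λ w).hom.app M)).hom.app (op U) ≫ 𝟙 _ ≫ 𝟙 _ =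
    𝟙 _ ≫ 𝟙 _ ≫ ((BCCalc.sq w).hom.app ((ab Λ X').obj M)).hom.app (op U)
  rw [h3, h4]
  simp

/-- The base change map for sheaves of modules is an isomorphism iff the one of the underlying abelian sheaf is. -/
theorem isIso_baseChange0Mod_iff (w : g' ≫ f = f' ≫ g) (F : EtModW.Mod Λ X) :
    IsIso (EtSix.baseChange0Mod Λ f g f' g' w F) ↔ IsIso (EtCoh.baseChange0 f g f' g' w ((ab Λ X).obj F)) := by
  rw [← isIso_iff_of_reflects_iso _ (ab Λ Y'), baseChange0Mod_eq, BCCalc.baseChange0_eq]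
  exact BCTransfer.isIso_map_bc_iff (EtSix.pullPushModAdj Λ g) (EtSix.pullPushModAdj Λ g') (sqM Λ w).hom
    (EtCoh.pullPushAdj g) (EtCoh.pullPushAdj g') (BCCalc.sq w).hom
    (UA := ab Λ X) (UB := ab Λ Y) (UA' := ab Λ X') (UB' := ab Λ Y')
    (pushIso Λ f) (pushIso Λ f') (pushIso Λ g) (pushIso Λ g') (pullIso Λ g) (pullIso Λ g')
    (PullUnit.unit_pullIso g) (PullUnit.unit_pullIso g') (sq_compat w) F

/-- Proper base change in degree zero for sheaves of modules with torsion underlying abelian sheaf. -/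
theorem isIso_baseChange0Mod (h : IsPullback g' f' f g) [IsProper f] (F : EtModW.Mod Λ X)
    (hF : EtCoh.IsTorsion ((ab Λ X).obj F)) : IsIso (EtSix.baseChange0Mod Λ f g f' g' h.w F) :=
  (isIso_baseChange0Mod_iff h.w F).2 (S0001.result X Y X' Y' f g f' g' h ((ab Λ X).obj F) hF).2

end Groth.Agent.EtSix.H3.ModBC
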