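import Groth.Prelude.Def_SixF2
import Groth.Agent.Sga4h.TensorUnit
import Groth.Agent.Sga4h.BidTens

/-!
# Multiplication by a global section, `B ⟶ A ⊗ B`

For `a : Λ_X ⟶ A` the morphism `tau a B : B ⟶ A ⊗ B`, natural in `B`; `EtSix.unitMap` is natural and an isomorphism.
-/

set_option autoImplicit false
universe v u

open CategoryTheory CategoryTheory.Limits AlgebraicGeometry Opposite MonoidalCategory

namespace Groth.Agent.EtSix.H3.Tau

open Groth.Agent.Sga4h.ModDTensor Groth.Agent.Sga4h.BidTens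

section Abstract

variable {C : Type*} [Category C] [MonoidalCategory C]

lemma unit_nat {M : C} (ι : 𝟙_ C ⟶ M) {B B' : C} (φ : B ⟶ B') :
    φ ≫ (ρ_ B').inv ≫ (B' ◁ ι) = ((ρ_ B).inv ≫ (B ◁ ι)) ≫ (φ ▷ M) := by
  rw [Category.assoc, whisker_exchange, rightUnitor_inv_naturality_assoc]

lemma unit_flip [BraidedCategory C] {M : C} (ι : 𝟙_ C ⟶ M) :
    ι ≫ ((ρ_ M).inv ≫ (M ◁ ι)) ≫ (β_ M M).hom = ι ≫ (ρ_ M).inv ≫ (M ◁ ι) := by
  have h4 : (ι ⊗ₘ ι) ≫ (β_ M M).hom = (β_ (𝟙_ C) (𝟙_ C)).hom ≫ (ι ⊗ₘ ι) := BraidedCategory.braiding_naturality ι ι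
  have h5 : (ρ_ (𝟙_ C)).inv ≫ (β_ (𝟙_ C) (𝟙_ C)).hom = (ρ_ (𝟙_ C)).inv := by
    rw [← unitors_inv_equal, leftUnitor_inv_braiding, unitors_inv_equal]
  rw [Category.assoc, rightUnitor_inv_naturality_assoc, ← tensorHom_def_assoc, h4, reassoc_of% h5,
    rightUnitor_inv_naturality_assoc, ← tensorHom_def]

end Abstract

variable {Λ : Type (u + 1)} [CommRing Λ] {X : Scheme.{u}}

variable (Λ X) in
/-- The canonical map from the constant presheaf to the constant sheaf. -/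
noncomputable def iota : 𝟙_ (PMod Λ X) ⟶ (EtSix.constΛ Λ X).obj :=
  toSheafify X.smallEtaleTopology ((Functor.const (X.Etaleᵒᵖ)).obj (ModuleCat.of Λ Λ))

lemma unitMapPre_eq (A : EtModW.Mod Λ X) : EtSix.unitMapPre Λ A = (ρ_ A.obj).inv ≫ (A.obj ◁ iota Λ X) := rfl

lemma unitMapPre_nat {B B' : EtModW.Mod Λ X} (φ : B ⟶ B') :
    φ.hom ≫ EtSix.unitMapPre Λ B' = EtSix.unitMapPre Λ B ≫ (φ.hom ▷ (EtSix.constΛ Λ X).obj) := by
  rw [unitMapPre_eq, unitMapPre_eq, unit_nat]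

lemma unitMapPre_flip :
    iota Λ X ≫ EtSix.unitMapPre Λ (EtSix.constΛ Λ X) ≫
        (β_ (EtSix.constΛ Λ X).obj (EtSix.constΛ Λ X).obj).hom =
      iota Λ X ≫ EtSix.unitMapPre Λ (EtSix.constΛ Λ X) := by
  rw [unitMapPre_eq, unit_flip]

lemma unitMap_nat {B B' : EtModW.Mod Λ X} (φ : B ⟶ B') :
    φ ≫ EtSix.unitMap B' = EtSix.unitMap B ≫ ((EtModD.tensorBi Λ X).map φ).app (EtSix.constΛ Λ X) := by
  ext1
  have h := toSheafify_naturality X.smallEtaleTopology (φ.hom ▷ (EtSix.constΛ Λ X).obj)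
  refine (congrArg (· ≫ toSheafify X.smallEtaleTopology (B'.obj ⊗ (EtSix.constΛ Λ X).obj))
    (unitMapPre_nat φ)).trans ?_
  refine (Category.assoc _ _ _).trans ?_
  refine (congrArg (EtSix.unitMapPre Λ B ≫ ·) h).trans ?_
  exact (Category.assoc _ _ _).symm

instance isIso_unitMap (A : EtModW.Mod Λ X) : IsIso (EtSix.unitMap A) := by
  have h1 : (EtSix.unitMap A).hom = toSheafify X.smallEtaleTopology A.obj ≫
      sheafifyMap X.smallEtaleTopology (EtSix.unitMapPre Λ A) :=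
    toSheafify_naturality X.smallEtaleTopology (EtSix.unitMapPre Λ A)
  have h2 : IsIso (toSheafify X.smallEtaleTopology A.obj) := isIso_toSheafify _ A.property
  have h3 : IsIso ((sh Λ X).map (EtSix.unitMapPre Λ A)) := by
    have h4 : IsIso ((sh Λ X).map (A.obj ◁ iota Λ X)) :=
      Groth.Agent.Sga4h.TensorUnit.isIso_map_whiskerLeft Λ A.obj (𝟙_ (PMod Λ X))
    rw [unitMapPre_eq, Functor.map_comp]
    infer_instance
  have h5 : IsIso (sheafifyMap X.smallEtaleTopology (EtSix.unitMapPre Λ A)) :=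
    inferInstanceAs (IsIso ((inc Λ X).map ((sh Λ X).map (EtSix.unitMapPre Λ A))))
  have h6 : IsIso ((inc Λ X).map (EtSix.unitMap A)) := by
    change IsIso (EtSix.unitMap A).hom
    rw [h1]
    exact @IsIso.comp_isIso _ _ _ _ _ _ _ h2 h5
  exact isIso_of_reflects_iso (EtSix.unitMap A) (inc Λ X)

lemma unitMap_flip :
    EtSix.unitMap (EtSix.constΛ Λ X) ≫
        ((tensorFlipIso Λ X).hom.app (EtSix.constΛ Λ X)).app (EtSix.constΛ Λ X) =
      EtSix.unitMap (EtSix.constΛ Λ X) := by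
  ext1
  refine sheafify_hom_ext _ _ _ (ObjectProperty.FullSubcategory.property _) ?_
  have hn := toSheafify_naturality X.smallEtaleTopology
    (β_ (EtSix.constΛ Λ X).obj (EtSix.constΛ Λ X).obj).hom
  change iota Λ X ≫ (EtSix.unitMapPre Λ (EtSix.constΛ Λ X) ≫
      toSheafify X.smallEtaleTopology ((EtSix.constΛ Λ X).obj ⊗ (EtSix.constΛ Λ X).obj)) ≫
      sheafifyMap X.smallEtaleTopology (β_ (EtSix.constΛ Λ X).obj (EtSix.constΛ Λ X).obj).hom =
    iota Λ X ≫ EtSix.unitMapPre Λ (EtSix.constΛ Λ X) ≫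
      toSheafify X.smallEtaleTopology ((EtSix.constΛ Λ X).obj ⊗ (EtSix.constΛ Λ X).obj)
  rw [Category.assoc]
  refine (congrArg (fun z => iota Λ X ≫ EtSix.unitMapPre Λ (EtSix.constΛ Λ X) ≫ z) hn).symm.trans ?_
  have := unitMapPre_flip (Λ := Λ) (X := X)
  refine (Eq.trans ?_ (congrArg (· ≫ toSheafify X.smallEtaleTopology
    ((EtSix.constΛ Λ X).obj ⊗ (EtSix.constΛ Λ X).obj)) this)).trans ?_
  · simp only [Category.assoc]
  · simp only [Category.assoc]

/-- Multiplication by a global section `a` of `A`. -/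
noncomputable def tau {A : EtModW.Mod Λ X} (a : EtSix.constΛ Λ X ⟶ A) (B : EtModW.Mod Λ X) :
    B ⟶ ((EtModD.tensorBi Λ X).obj A).obj B :=
  EtSix.unitMap B ≫ ((EtModD.tensorBi Λ X).obj B).map a ≫ ((tensorFlipIso Λ X).hom.app A).app B

lemma tau_nat {A : EtModW.Mod Λ X} (a : EtSix.constΛ Λ X ⟶ A) {B B' : EtModW.Mod Λ X} (φ : B ⟶ B') :
    φ ≫ tau a B' = tau a B ≫ ((EtModD.tensorBi Λ X).obj A).map φ := by
  have h1 := unitMap_nat φ
  have h2 := ((EtModD.tensorBi Λ X).map φ).naturality a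
  have h3 := ((tensorFlipIso Λ X).hom.app A).naturality φ
  rw [tau, tau, reassoc_of% h1]
  simp only [Category.assoc]
  refine congrArg (EtSix.unitMap B ≫ ·) ?_
  refine ((reassoc_of% h2) _).symm.trans ?_
  exact congrArg (((EtModD.tensorBi Λ X).obj B).map a ≫ ·) h3

/-- `b ≫ tau a B` is the product of the sections `a` and `b`. -/
lemma comp_tau {A : EtModW.Mod Λ X} (a : EtSix.constΛ Λ X ⟶ A) {B : EtModW.Mod Λ X} (b : EtSix.constΛ Λ X ⟶ B) :
    b ≫ tau a B = a ≫ EtSix.unitMap A ≫ ((EtModD.tensorBi Λ X).obj A).map b := by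
  rw [tau_nat, tau]
  have h1 := ((tensorFlipIso Λ X).hom.naturality a)
  have h2 : ((EtModD.tensorBi Λ X).obj (EtSix.constΛ Λ X)).map a ≫
      ((tensorFlipIso Λ X).hom.app A).app (EtSix.constΛ Λ X) =
      ((tensorFlipIso Λ X).hom.app (EtSix.constΛ Λ X)).app (EtSix.constΛ Λ X) ≫
        ((EtModD.tensorBi Λ X).map a).app (EtSix.constΛ Λ X) := congr_app h1 (EtSix.constΛ Λ X)
  have h3 := unitMap_flip (Λ := Λ) (X := X)
  have h4 := unitMap_nat a
  rw [h2, reassoc_of% h3, ← h4, Category.assoc]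

end Groth.Agent.EtSix.H3.Tau
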