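import Groth.Agent.EtSix.H3.ConstPf
import Groth.Agent.EtSix.H3.Tau

/-!
# The maps `L ⟶ q_* (A ⊗ q^* L)` attached to a section of `A`

For `q : Z ⟶ Y` and `a : Λ_Z ⟶ A`: `psi q a L : L ⟶ q_* (A ⊗ q^* L)`, natural in `L`, with its value on sections
(`comp_psi`) and on the constant sheaf (`psi_const`).
-/

set_option autoImplicit false
universe u

open CategoryTheory CategoryTheory.Limits AlgebraicGeometry Opposite

namespace Groth.Agent.EtSix.H3.Psi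

open Groth.Agent.EtSix.H3.ConstPf Groth.Agent.EtSix.H3.Tau

variable {Λ : Type (u + 1)} [CommRing Λ] {Z Y : Scheme.{u}} (q : Z ⟶ Y) {A : EtModW.Mod Λ Z}

/-- `L ⟶ q_* (A ⊗ q^* L)`, on sections `l ↦ a ⊗ q^* l`. -/
noncomputable def psi (a : EtSix.constΛ Λ Z ⟶ A) (L : EtModW.Mod Λ Y) :
    L ⟶ (EtModW.push Λ q).obj (((EtModD.tensorBi Λ Z).obj A).obj ((EtModW.pull Λ q).obj L)) :=
  (EtSix.pullPushModAdj Λ q).homEquiv _ _ (tau a ((EtModW.pull Λ q).obj L))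

lemma psi_nat (a : EtSix.constΛ Λ Z ⟶ A) {L L' : EtModW.Mod Λ Y} (φ : L ⟶ L') :
    φ ≫ psi q a L' = psi q a L ≫
      (EtModW.push Λ q).map (((EtModD.tensorBi Λ Z).obj A).map ((EtModW.pull Λ q).map φ)) := by
  rw [psi, psi, ← Adjunction.homEquiv_naturality_left, ← Adjunction.homEquiv_naturality_right, tau_nat]

/-- The section `a ⊗ q^* c` of `A ⊗ q^* L`. -/
noncomputable def prodSec (a : EtSix.constΛ Λ Z ⟶ A) {L : EtModW.Mod Λ Y} (c : EtSix.constΛ Λ Y ⟶ L) :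
    EtSix.constΛ Λ Z ⟶ ((EtModD.tensorBi Λ Z).obj A).obj ((EtModW.pull Λ q).obj L) :=
  a ≫ EtSix.unitMap A ≫ ((EtModD.tensorBi Λ Z).obj A).map (pb q c)

lemma comp_psi (a : EtSix.constΛ Λ Z ⟶ A) {L : EtModW.Mod Λ Y} (c : EtSix.constΛ Λ Y ⟶ L) :
    c ≫ psi q a L = pf q (prodSec q a c) := by
  rw [prodSec, ← comp_tau, pf_comp, pf_pb, psi, Adjunction.homEquiv_unit, Category.assoc]

variable (A) in
/-- `A ⟶ A ⊗ q^* Λ`. -/
noncomputable def kappa : A ⟶ ((EtModD.tensorBi Λ Z).obj A).obj ((EtModW.pull Λ q).obj (EtSix.constΛ Λ Y)) :=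
  EtSix.unitMap A ≫ ((EtModD.tensorBi Λ Z).obj A).map (EtSix.pullConstΛ Λ q).inv

instance isIso_kappa : IsIso (kappa q A) := by unfold kappa; infer_instance

lemma psi_const (a : EtSix.constΛ Λ Z ⟶ A) :
    psi q a (EtSix.constΛ Λ Y) = pf q a ≫ (EtModW.push Λ q).map (kappa q A) := by
  have h := comp_psi q a (𝟙 (EtSix.constΛ Λ Y))
  rw [Category.id_comp] at h
  rw [h, ← pf_comp, prodSec, pb, CategoryTheory.Functor.map_id, Category.comp_id, kappa]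

end Groth.Agent.EtSix.H3.Psi
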