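import Groth.Agent.EtSix.H3.PushProd
import Groth.Agent.EtSix.H3.FieldPt

/-!
# `∐_T L ≅ (pr₂)_* (pr₁^* K ⊗ pr₂^* L)` for `X` proper over an algebraically closed field
-/

set_option autoImplicit false
universe u

open CategoryTheory CategoryTheory.Limits AlgebraicGeometry Opposite

namespace Groth.Agent.EtSix.H3.PsiIso

open Groth.Agent.Etrest.ModAb Groth.Agent.EtSix.H3.ConstPf Groth.Agent.EtSix.H3.Psi Groth.Agent.EtSix.H3.PushProd
  Groth.Agent.EtSix.H3.PushMod Groth.Agent.EtSix.H3.ModBC Groth.Agent.EtSix.H3.Sec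

variable {Λ : Type (u + 1)} [CommRing Λ]

/-- Sheaves of modules over a ring of positive characteristic are torsion. -/
theorem isTorsion_ab {n : ℕ} (hn : 0 < n) (hΛ : (n : Λ) = 0) {W : Scheme.{u}} (F : EtModW.Mod Λ W) :
    EtCoh.IsTorsion ((ab Λ W).obj F) := by
  intro U s x
  refine ⟨U, 𝟙 U, ⟨x, rfl⟩, ?_⟩
  rw [isOfFinAddOrder_iff_nsmul_eq_zero]
  refine ⟨n, hn, ?_⟩
  have h : ∀ m : F.obj.obj (op U), n • m = 0 := fun m => by
    rw [← Nat.cast_smul_eq_nsmul Λ, hΛ, zero_smul]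
  exact h _

variable {k : Type u} [Field k] [IsAlgClosed k] {X Y : Scheme.{u}}
  (f : X ⟶ Spec (CommRingCat.of k)) (g : Y ⟶ Spec (CommRingCat.of k))

omit [IsAlgClosed k] in
/-- The fibre of `X ×_k Y ⟶ Y` at a rational point `ξ` of `Y` is `X`. -/
theorem exists_fibre (ξ : Spec (CommRingCat.of k) ⟶ Y) (hξ : ξ ≫ g = 𝟙 _) :
    ∃ h : X ⟶ pullback f g, h ≫ pullback.fst f g = 𝟙 X ∧ IsPullback h f (pullback.snd f g) ξ := by
  have w : (𝟙 X : X ⟶ X) ≫ f = (f ≫ ξ) ≫ g := by rw [Category.assoc, hξ, Category.id_comp, Category.comp_id]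
  refine ⟨pullback.lift (𝟙 X) (f ≫ ξ) w, pullback.lift_fst _ _ _, ?_⟩
  have hr : IsPullback (pullback.fst f g) (pullback.snd f g) f g := IsPullback.of_hasPullback f g
  refine IsPullback.of_right ?_ (pullback.lift_snd _ _ _) hr
  rw [pullback.lift_fst, hξ]
  exact IsPullback.of_horiz_isIso ⟨by rw [Category.id_comp, Category.comp_id]⟩

/-- The constant sheaf `Λ` pulls back to a generator over `Spec k`. -/
theorem exists_generators (ξ : Spec (CommRingCat.of k) ⟶ Y)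
    (hfree : ∀ V : ModuleCat.{u + 1} Λ, ∃ T : Type (u + 1), Nonempty (Module.Basis T Λ V)) (L : EtModW.Mod Λ Y) :
    ∃ T : Type (u + 1),
      Nonempty ((EtModW.pull Λ ξ).obj (∐ fun _ : T => EtSix.constΛ Λ Y) ≅ (EtModW.pull Λ ξ).obj L) := by
  obtain ⟨T, ⟨b⟩⟩ := hfree ((EtSix.gsecMod Λ (Spec (CommRingCat.of k))).obj ((EtModW.pull Λ ξ).obj L))
  choose x hx using fun t => exists_sec (M := (EtModW.pull Λ ξ).obj L) (b t)
  have h1 := FieldPt.isIso_desc ((EtModW.pull Λ ξ).obj L) b x hx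
  have h2 := preservesColimitsOfShape_pull (Λ := Λ) T ξ
  exact ⟨T, ⟨PreservesCoproduct.iso (EtModW.pull Λ ξ) (fun _ : T => EtSix.constΛ Λ Y) ≪≫
    Limits.Sigma.mapIso (fun _ => EtSix.pullConstΛ Λ ξ) ≪≫ asIso (Limits.Sigma.desc x)⟩⟩

/-- The main isomorphism. -/
theorem isIso_Psi [IsProper f] [LocallyOfFiniteType g] {n : ℕ} (hn : 0 < n) (hΛ : (n : Λ) = 0)
    (hfree : ∀ V : ModuleCat.{u + 1} Λ, ∃ T : Type (u + 1), Nonempty (Module.Basis T Λ V))
    (K : EtModW.Mod Λ X) {T : Type (u + 1)} (s : T → (EtSix.constΛ Λ X ⟶ K))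
    (hs : IsIso (Limits.Sigma.desc fun t => pf f (s t))) (L : EtModW.Mod Λ Y) :
    IsIso ((Psi (pullback.snd f g) (fun t => pb (pullback.fst f g) (s t))).app L) := by
  have hsq : IsPullback (pullback.fst f g) (pullback.snd f g) f g := IsPullback.of_hasPullback f g
  have h1 : IsIso (EtSix.baseChange0Mod Λ f g (pullback.snd f g) (pullback.fst f g) hsq.w K) :=
    isIso_baseChange0Mod hsq K (isTorsion_ab hn hΛ K)
  have hE := isIso_Psi_const hsq.w s
  apply ClosedPts.isIso_of_points g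
  intro ξ hξ
  obtain ⟨h, -, hh⟩ := exists_fibre f g ξ hξ
  have hcl : IsClosedImmersion ξ := isClosedImmersion_of_comp_eq_id g ξ hξ
  obtain ⟨hF1, hF2⟩ := Groth.Agent.Sga4h.LFinPull.full_faithful_closed (Λ := Λ) ξ
  have hcounit : IsIso (EtSix.pullPushModAdj Λ ξ).counit := inferInstance
  exact isIso_pull_Psi hh.w (fun L => isIso_baseChange0Mod hh _ (isTorsion_ab hn hΛ _))
    (fun t => pb (pullback.fst f g) (s t)) (exists_generators ξ hfree) hE L

end Groth.Agent.EtSix.H3.PsiIso
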