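import Groth.Agent.EtSix.H3.ModBC
import Groth.Agent.EtSix.H3.Psi
import Groth.Agent.EtSix.H3.PushMod
import Groth.Agent.EtSix.H3.ClosedPts
import Groth.Agent.Sga4h.LFinPull

/-!
# `(pr₂)_* (pr₁^* K ⊗ pr₂^* L)` for proper schemes over an algebraically closed field

Let `f : X ⟶ Spec k` be proper, `g : Y ⟶ Spec k` locally of finite type and separated, `k` algebraically closed,
and let the sections `s t : Λ_X ⟶ K` be such that `∐_T Λ ⟶ f_* K` is an isomorphism. Then for every `L` the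
morphism `∐_T L ⟶ (pr₂)_* (pr₁^* K ⊗ pr₂^* L)` with components `psi` is an isomorphism.
-/

set_option autoImplicit false
universe u

open CategoryTheory CategoryTheory.Limits AlgebraicGeometry Opposite

namespace Groth.Agent.EtSix.H3.PushProd

open Groth.Agent.Etrest.ModAb Groth.Agent.EtSix.H3.ConstPf Groth.Agent.EtSix.H3.Tau Groth.Agent.EtSix.H3.Psi
  Groth.Agent.EtSix.H3.SqM Groth.Agent.EtSix.H3.PushMod Groth.Agent.EtSix.H3.Zigzag Groth.Agent.EtSix.H3.ModBC

variable {Λ : Type (u + 1)} [CommRing Λ]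

section General

variable {X Y Z : Scheme.{u}} (q : Z ⟶ Y) {A : EtModW.Mod Λ Z} {T : Type (u + 1)}
  (a : T → (EtSix.constΛ Λ Z ⟶ A))

variable (A) in
/-- The functor `L ↦ q_* (A ⊗ q^* L)`. -/
noncomputable abbrev pushT : EtModW.Mod Λ Y ⥤ EtModW.Mod Λ Y :=
  EtModW.pull Λ q ⋙ (EtModD.tensorBi Λ Z).obj A ⋙ EtModW.push Λ q

/-- The transformation `∐_T L ⟶ q_* (A ⊗ q^* L)` with components `psi`. -/
noncomputable def Psi : copr T (EtModW.Mod Λ Y) ⟶ pushT q A where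
  app L := Limits.Sigma.desc fun t => psi q (a t) L
  naturality L L' φ := by
    apply Limits.Sigma.hom_ext
    intro t
    change Limits.Sigma.ι (fun _ : T => L) t ≫ Limits.Sigma.map (fun _ => φ) ≫
        Limits.Sigma.desc (fun t => psi q (a t) L') =
      Limits.Sigma.ι (fun _ : T => L) t ≫ Limits.Sigma.desc (fun t => psi q (a t) L) ≫
        (EtModW.push Λ q).map (((EtModD.tensorBi Λ Z).obj A).map ((EtModW.pull Λ q).map φ))
    rw [Limits.Sigma.ι_map_assoc, Limits.Sigma.ι_desc, Limits.Sigma.ι_desc_assoc, psi_nat]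

lemma ι_Psi (L : EtModW.Mod Λ Y) (t : T) :
    Limits.Sigma.ι (fun _ : T => L) t ≫ (Psi q a).app L = psi q (a t) L := Limits.Sigma.ι_desc _ _

end General

section Const

variable {X Y S Z : Scheme.{u}} {f : X ⟶ S} {g : Y ⟶ S} {p : Z ⟶ X} {q : Z ⟶ Y} (w : p ≫ f = q ≫ g)
  {K : EtModW.Mod Λ X} {T : Type (u + 1)} (s : T → (EtSix.constΛ Λ X ⟶ K))

/-- `Psi` is an isomorphism on the constant sheaf. -/
theorem isIso_Psi_const [IsIso (Limits.Sigma.desc fun t => pf f (s t))]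
    [IsIso (EtSix.baseChange0Mod Λ f g q p w K)] :
    IsIso ((Psi q (fun t => pb p (s t))).app (EtSix.constΛ Λ Y)) := by
  have h0 := preservesColimitsOfShape_pull (Λ := Λ) T g
  have h1 : IsIso (Limits.Sigma.desc fun t => (EtSix.pullConstΛ Λ g).inv ≫ (EtModW.pull Λ g).map (pf f (s t))) :=
    isIso_sigma_desc (EtModW.pull Λ g) (EtSix.pullConstΛ Λ g).inv (fun t => pf f (s t))
  have h2 : (Psi q (fun t => pb p (s t))).app (EtSix.constΛ Λ Y) =
      (Limits.Sigma.desc fun t => (EtSix.pullConstΛ Λ g).inv ≫ (EtModW.pull Λ g).map (pf f (s t))) ≫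
        EtSix.baseChange0Mod Λ f g q p w K ≫ (EtModW.push Λ q).map (kappa q ((EtModW.pull Λ p).obj K)) := by
    apply Limits.Sigma.hom_ext
    intro t
    refine (ι_Psi q (fun t => pb p (s t)) (EtSix.constΛ Λ Y) t).trans ?_
    rw [Limits.Sigma.ι_desc_assoc, psi_const, ← pb_pf_bc w, Category.assoc]
    rfl
  have h3 : IsIso (EtSix.baseChange0Mod Λ f g q p w K ≫
      (EtModW.push Λ q).map (kappa q ((EtModW.pull Λ p).obj K))) := inferInstance
  rw [h2]
  exact @IsIso.comp_isIso _ _ _ _ _ _ _ h1 h3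

end Const

section Point

variable {Y Z P X' : Scheme.{u}} {q : Z ⟶ Y} {ξ : P ⟶ Y} {f' : X' ⟶ P} {h : X' ⟶ Z} (w' : h ≫ q = f' ≫ ξ)
  {A : EtModW.Mod Λ Z}

include w' in
lemma isIso_pull_pull {L L' : EtModW.Mod Λ Y} (φ : L ⟶ L') (hφ : IsIso ((EtModW.pull Λ ξ).map φ)) :
    IsIso ((EtModW.pull Λ h).map ((EtModW.pull Λ q).map φ)) := by
  have h1 : IsIso ((EtModW.pull Λ ξ ⋙ EtModW.pull Λ f').map φ) := by
    change IsIso ((EtModW.pull Λ f').map ((EtModW.pull Λ ξ).map φ))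
    infer_instance
  have h2 : IsIso ((EtModW.pull Λ (f' ≫ ξ)).map φ) :=
    (NatIso.isIso_map_iff (EtSix.pullModComp Λ f' ξ) φ).2 h1
  have h3 : IsIso ((EtModW.pull Λ (h ≫ q)).map φ) := by rw [w']; exact h2
  exact (NatIso.isIso_map_iff (EtSix.pullModComp Λ h q) φ).1 h3

include w' in
lemma isIso_pull_tensor {L L' : EtModW.Mod Λ Y} (φ : L ⟶ L') (hφ : IsIso ((EtModW.pull Λ ξ).map φ)) :
    IsIso ((EtModW.pull Λ h).map (((EtModD.tensorBi Λ Z).obj A).map ((EtModW.pull Λ q).map φ))) := by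
  have h1 := isIso_pull_pull w' φ hφ
  have h2 := Groth.Agent.Sga4h.BidTens.delta_nat₂ h A ((EtModW.pull Λ q).map φ)
  have h3 : IsIso ((EtModW.pull Λ h).map (((EtModD.tensorBi Λ Z).obj A).map ((EtModW.pull Λ q).map φ)) ≫
      Groth.Agent.Sga4h.BidTens.delta h A ((EtModW.pull Λ q).obj L')) := by
    rw [h2]
    infer_instance
  exact IsIso.of_isIso_comp_right _ (Groth.Agent.Sga4h.BidTens.delta h A ((EtModW.pull Λ q).obj L'))

variable (hbc : ∀ L : EtModW.Mod Λ Y, IsIso (EtSix.baseChange0Mod Λ q ξ f' h w'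
    (((EtModD.tensorBi Λ Z).obj A).obj ((EtModW.pull Λ q).obj L))))

/-- `ξ^* q_* (A ⊗ q^* L) ≅ f'_* h^* (A ⊗ q^* L)`. -/
noncomputable def pushTIso : pushT q A ⋙ EtModW.pull Λ ξ ≅
    EtModW.pull Λ q ⋙ (EtModD.tensorBi Λ Z).obj A ⋙ EtModW.pull Λ h ⋙ EtModW.push Λ f' :=
  NatIso.ofComponents (fun L =>
    @asIso _ _ _ _ (EtSix.baseChange0Mod Λ q ξ f' h w'
      (((EtModD.tensorBi Λ Z).obj A).obj ((EtModW.pull Λ q).obj L))) (hbc L))
    (fun {_ _} _ => baseChange0Mod_naturality w' _)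

include hbc in
/-- `Psi` is an isomorphism at `ξ`. -/
theorem isIso_pull_Psi [QuasiCompact f'] [QuasiSeparated f'] [IsIso (EtSix.pullPushModAdj Λ ξ).counit]
    {T : Type (u + 1)} (a : T → (EtSix.constΛ Λ Z ⟶ A))
    (hP : ∀ L : EtModW.Mod Λ Y, ∃ T' : Type (u + 1),
      Nonempty ((EtModW.pull Λ ξ).obj (∐ fun _ : T' => EtSix.constΛ Λ Y) ≅ (EtModW.pull Λ ξ).obj L))
    (hE : IsIso ((Psi q a).app (EtSix.constΛ Λ Y))) (L : EtModW.Mod Λ Y) :
    IsIso ((EtModW.pull Λ ξ).map ((Psi q a).app L)) := by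
  refine isIso_map_app (Psi q a) (EtModW.pull Λ ξ) (EtSix.pullPushModAdj Λ ξ) (EtSix.constΛ Λ Y) ?_ ?_ ?_ ?_ hP hE L
  · intro L L' φ hφ
    have := preservesColimitsOfShape_pull (Λ := Λ) T ξ
    exact isIso_map_copr_map (EtModW.pull Λ ξ) φ
  · intro L L' φ hφ
    refine (NatIso.isIso_map_iff (pushTIso w' hbc) φ).2 ?_
    have := isIso_pull_tensor (A := A) w' φ hφ
    change IsIso ((EtModW.push Λ f').map ((EtModW.pull Λ h).map
      (((EtModD.tensorBi Λ Z).obj A).map ((EtModW.pull Λ q).map φ))))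
    infer_instance
  · intro T'
    have h1 := isLeftAdjoint_copr (B := T) (C := EtModW.Mod Λ Y)
    have h2 : PreservesColimitsOfSize.{u + 1, u + 1} (copr T (EtModW.Mod Λ Y)) :=
      (Adjunction.ofIsLeftAdjoint (copr T (EtModW.Mod Λ Y))).leftAdjoint_preservesColimits
    have h3 := preservesColimitsOfShape_pull (Λ := Λ) T' ξ
    exact comp_preservesColimitsOfShape (copr T (EtModW.Mod Λ Y)) (EtModW.pull Λ ξ)
  · intro T'
    have h1 := preservesColimitsOfShape_pull (Λ := Λ) T' q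
    have h2 := preservesColimitsOfShape_tensor (Λ := Λ) T' A
    have h3 := preservesColimitsOfShape_pull (Λ := Λ) T' h
    have h4 := preservesColimitsOfShape_push (Λ := Λ) T' f'
    have h5 : PreservesColimitsOfShape (Discrete T')
      (EtModW.pull Λ q ⋙ (EtModD.tensorBi Λ Z).obj A ⋙ EtModW.pull Λ h ⋙ EtModW.push Λ f') := inferInstance
    exact preservesColimitsOfShape_of_natIso (pushTIso w' hbc).symm

end Point

end Groth.Agent.EtSix.H3.PushProd
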